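import Cfsg.Agent.Lib.Known.E8U43.Data

/-!
# The checks of the data
-/

set_option autoImplicit false
set_option maxRecDepth 100000
set_option maxHeartbeats 1000000

namespace CfsgLib.Known.E8U43

/-- A code of an element of the group. -/
def goodM (m : List ℕ) : Bool := m.all (fun a => decide (a < 9)) && okM m

/-- Equality up to scalars and the normal subgroup. -/
def eqvE (m n : List ℕ) : Bool := elsE.any fun e => eqv (mm m e) n

/-- The data of a subgroup. -/
structure Tbl where
  /-- the generators -/
  gens : List (List ℕ)
  /-- the elements -/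
  els : List (List ℕ)
  /-- the products with generators -/
  next : List (List ℕ)
  /-- the descent -/
  par : List (ℕ × ℕ)
  /-- the classes -/
  cls : List ℕ
  /-- the conjugators -/
  wit : List (List ℕ)

/-- The Sylow subgroup. -/
def tblP : Tbl := ⟨gensP, elsP, nextP, parP, clsP, witP⟩
/-- The normal subgroup. -/
def tblE : Tbl := ⟨gensE, elsE, nextE, parE, clsE, witE⟩
/-- Its extension by an involution. -/
def tblA : Tbl := ⟨gensA, elsA, nextA, parA, clsA, witA⟩
/-- Its extension by an element of order four. -/
def tblQ : Tbl := ⟨gensQ, elsQ, nextQ, parQ, clsQ, witQ⟩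

/-- An element of a table. -/
def Tbl.el' (T : Tbl) (a : ℕ) : List ℕ := T.els.getD a oneL

/-- The number of an element times a generator. -/
def Tbl.nx (T : Tbl) (a j : ℕ) : ℕ := (T.next.getD a []).getD j 0

/-- The conjugate transpose. -/
def adjL (m : List ℕ) : List ℕ := ofEnt fun r s => conjN (ent m s r)

/-- The conjugates of the generators of the normalizer by an element. -/
def fingerprint (m : List ℕ) : List (List ℕ) := normGens.map fun n => mm (mm m n) (adjL m)

/-- The checks of a table. -/
def Tbl.ok (T : Tbl) : Bool :=
  T.gens.all goodM && T.els.all goodM && T.wit.all goodM && T.wit.length == T.els.length &&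
    T.cls.length == T.els.length && decide (0 < T.els.length) && eqv (T.el' 0) oneL &&
    ((List.range T.els.length).all fun a =>
      ((List.range T.gens.length).all fun j => decide (T.nx a j < T.els.length) &&
        eqv (mm (T.el' a) (T.gens.getD j oneL)) (T.el' (T.nx a j))) &&
      (a == 0 || (decide ((T.par.getD a (0, 0)).1 < a) && decide ((T.par.getD a (0, 0)).2 < T.gens.length) &&
        T.nx (T.par.getD a (0, 0)).1 (T.par.getD a (0, 0)).2 == a)) &&
      decide (T.cls.getD a 0 < 5) &&
      eqv (mm (T.el' a) (T.wit.getD a oneL)) (mm (T.wit.getD a oneL) (clsRep.getD (T.cls.getD a 0) oneL))) &&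
    decide (T.els.map fingerprint).Nodup && normGens.all goodM &&
    T.els.all fun m => goodM (adjL m) && mm m (adjL m) == oneL

/-- An element failing to commute with a given one. -/
def nonCentral (m : List ℕ) : Bool :=
  !((List.finRange 4).all fun r => (List.finRange 4).all fun s => ent (mm m noComm) r s == ent (mm noComm m) r s)

theorem reps_ok : clsRep.length = 5 ∧ clsRep.all goodM = true ∧ goodM noComm = true ∧
    eqv (clsRep.getD 0 oneL) oneL = true ∧
    nonCentral (powL (clsRep.getD 1 oneL) 1) = true ∧ nonCentral (powL (clsRep.getD 2 oneL) 2) = true ∧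
    nonCentral (powL (clsRep.getD 3 oneL) 2) = true ∧ nonCentral (powL (clsRep.getD 4 oneL) 4) = true ∧
    eqv (powL (clsRep.getD 1 oneL) 2) oneL = true ∧ eqv (powL (clsRep.getD 2 oneL) 4) oneL = true ∧
    eqv (powL (clsRep.getD 3 oneL) 4) oneL = true ∧ eqv (powL (clsRep.getD 4 oneL) 8) oneL = true := by
  decide +kernel

theorem tblP_ok : tblP.ok = true ∧ tblP.els.length = 128 := by decide +kernel

theorem tblE_ok : tblE.ok = true ∧ tblE.els.length = 16 := by decide +kernel

theorem tblA_ok : tblA.ok = true ∧ tblA.els.length = 32 := by decide +kernel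

theorem tblQ_ok : tblQ.ok = true ∧ tblQ.els.length = 64 := by decide +kernel

/-- The sign of an element of the Sylow subgroup. -/
def chi (c a : ℕ) : ℕ := (chars.getD c []).getD a 0

theorem chars_ok : ((List.range 8).all fun c => (List.range 128).all fun a => decide (chi c a < 2) &&
    (List.range 3).all fun j => chi c (tblP.nx a j) == (chi c a + chi c (tblP.nx 0 j)) % 2) = true := by
  decide +kernel

/-- The squares of the representatives. -/
theorem sq_ok : ((List.range 128).any fun a => eqv (powL (clsRep.getD 4 oneL) 4) (tblP.el' a) && tblP.cls.getD a 0 == 1) &&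
    ((List.range 128).any fun a => eqv (powL (clsRep.getD 2 oneL) 2) (tblP.el' a) && tblP.cls.getD a 0 == 1) &&
    ((List.range 128).any fun a => eqv (powL (clsRep.getD 3 oneL) 2) (tblP.el' a) && tblP.cls.getD a 0 == 1) &&
    ((List.range 128).any fun a => eqv (powL (clsRep.getD 4 oneL) 2) (tblP.el' a) && tblP.cls.getD a 0 == 2) = true := by
  decide +kernel

end CfsgLib.Known.E8U43
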