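import Cfsg.Agent.Lib.Known.E8U43.Model

/-!
# The data of the two local subgroups
-/

set_option autoImplicit false
set_option maxRecDepth 100000

namespace CfsgLib.Known.E8U43

/-- The representatives of the classes. -/
def clsRep : List (List ℕ) := [
  [1, 0, 0, 0, 0, 1, 0, 0, 0, 0, 1, 0, 0, 0, 0, 1],
  [0, 0, 0, 1, 0, 0, 1, 0, 0, 1, 0, 0, 1, 0, 0, 0],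
  [0, 1, 0, 0, 1, 0, 0, 0, 0, 0, 3, 0, 0, 0, 0, 3],
  [0, 0, 0, 1, 0, 0, 3, 0, 1, 0, 0, 0, 0, 3, 0, 0],
  [0, 1, 0, 0, 3, 0, 0, 0, 0, 0, 1, 0, 0, 0, 0, 3]]

/-- An element commuting with no representative. -/
def noComm : List ℕ := [0, 0, 1, 0, 1, 0, 0, 0, 0, 1, 0, 0, 0, 0, 0, 1]

/-- The generators of the four group squared. -/
def genE : List (List ℕ) := [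
  [1, 0, 0, 0, 0, 1, 0, 0, 0, 0, 2, 0, 0, 0, 0, 2],
  [1, 0, 0, 0, 0, 2, 0, 0, 0, 0, 1, 0, 0, 0, 0, 2],
  [0, 1, 0, 0, 1, 0, 0, 0, 0, 0, 0, 1, 0, 0, 1, 0],
  [0, 0, 1, 0, 0, 0, 0, 1, 1, 0, 0, 0, 0, 1, 0, 0]]

/-- Generators. -/
def gensP : List (List ℕ) := [
  [0, 1, 0, 0, 6, 0, 0, 0, 0, 0, 1, 0, 0, 0, 0, 6],
  [0, 0, 1, 0, 0, 0, 0, 2, 0, 6, 0, 0, 3, 0, 0, 0],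
  [0, 1, 0, 0, 2, 0, 0, 0, 0, 0, 3, 0, 0, 0, 0, 6]]

/-- Elements. -/
def elsP : List (List ℕ) := [
  [1, 0, 0, 0, 0, 1, 0, 0, 0, 0, 1, 0, 0, 0, 0, 1],
  [0, 1, 0, 0, 6, 0, 0, 0, 0, 0, 1, 0, 0, 0, 0, 6],
  [0, 0, 1, 0, 0, 0, 0, 2, 0, 6, 0, 0, 3, 0, 0, 0],
  [0, 1, 0, 0, 2, 0, 0, 0, 0, 0, 3, 0, 0, 0, 0, 6],
  [1, 0, 0, 0, 0, 1, 0, 0, 0, 0, 3, 0, 0, 0, 0, 6],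
  [0, 0, 0, 1, 0, 0, 3, 0, 0, 3, 0, 0, 2, 0, 0, 0],
  [1, 0, 0, 0, 0, 3, 0, 0, 0, 0, 6, 0, 0, 0, 0, 1],
  [0, 0, 1, 0, 0, 0, 0, 3, 2, 0, 0, 0, 0, 3, 0, 0],
  [0, 1, 0, 0, 1, 0, 0, 0, 0, 0, 0, 2, 0, 0, 2, 0],
  [0, 0, 1, 0, 0, 0, 0, 1, 1, 0, 0, 0, 0, 1, 0, 0],
  [1, 0, 0, 0, 0, 6, 0, 0, 0, 0, 2, 0, 0, 0, 0, 6],
  [0, 0, 0, 1, 0, 0, 1, 0, 0, 2, 0, 0, 2, 0, 0, 0],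
  [0, 1, 0, 0, 6, 0, 0, 0, 0, 0, 3, 0, 0, 0, 0, 2],
  [0, 0, 1, 0, 0, 0, 0, 2, 0, 1, 0, 0, 1, 0, 0, 0],
  [0, 1, 0, 0, 2, 0, 0, 0, 0, 0, 2, 0, 0, 0, 0, 2],
  [0, 0, 0, 1, 0, 0, 2, 0, 3, 0, 0, 0, 0, 6, 0, 0],
  [1, 0, 0, 0, 0, 6, 0, 0, 0, 0, 0, 2, 0, 0, 3, 0],
  [0, 0, 0, 1, 0, 0, 6, 0, 1, 0, 0, 0, 0, 6, 0, 0],
  [0, 1, 0, 0, 1, 0, 0, 0, 0, 0, 6, 0, 0, 0, 0, 6],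
  [0, 0, 1, 0, 0, 0, 0, 6, 0, 2, 0, 0, 3, 0, 0, 0],
  [0, 0, 1, 0, 0, 0, 0, 1, 0, 2, 0, 0, 1, 0, 0, 0],
  [0, 1, 0, 0, 6, 0, 0, 0, 0, 0, 6, 0, 0, 0, 0, 1],
  [0, 0, 1, 0, 0, 0, 0, 6, 0, 3, 0, 0, 2, 0, 0, 0],
  [1, 0, 0, 0, 0, 3, 0, 0, 0, 0, 0, 2, 0, 0, 6, 0],
  [1, 0, 0, 0, 0, 2, 0, 0, 0, 0, 0, 6, 0, 0, 3, 0],
  [0, 0, 1, 0, 0, 0, 0, 6, 0, 1, 0, 0, 6, 0, 0, 0],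
  [0, 0, 1, 0, 0, 0, 0, 3, 0, 3, 0, 0, 1, 0, 0, 0],
  [0, 1, 0, 0, 3, 0, 0, 0, 0, 0, 6, 0, 0, 0, 0, 2],
  [0, 0, 0, 1, 0, 0, 3, 0, 2, 0, 0, 0, 0, 6, 0, 0],
  [1, 0, 0, 0, 0, 1, 0, 0, 0, 0, 2, 0, 0, 0, 0, 2],
  [0, 0, 0, 1, 0, 0, 3, 0, 0, 2, 0, 0, 3, 0, 0, 0],
  [1, 0, 0, 0, 0, 3, 0, 0, 0, 0, 1, 0, 0, 0, 0, 6],
  [0, 0, 1, 0, 0, 0, 0, 3, 6, 0, 0, 0, 0, 1, 0, 0],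
  [0, 1, 0, 0, 1, 0, 0, 0, 0, 0, 0, 6, 0, 0, 3, 0],
  [0, 0, 1, 0, 0, 0, 0, 1, 3, 0, 0, 0, 0, 6, 0, 0],
  [1, 0, 0, 0, 0, 6, 0, 0, 0, 0, 6, 0, 0, 0, 0, 2],
  [0, 0, 0, 1, 0, 0, 1, 0, 0, 6, 0, 0, 3, 0, 0, 0],
  [0, 0, 0, 1, 0, 0, 6, 0, 0, 2, 0, 0, 6, 0, 0, 0],
  [0, 1, 0, 0, 2, 0, 0, 0, 0, 0, 0, 3, 0, 0, 3, 0],
  [0, 1, 0, 0, 3, 0, 0, 0, 0, 0, 0, 3, 0, 0, 2, 0],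
  [0, 0, 0, 1, 0, 0, 1, 0, 0, 3, 0, 0, 6, 0, 0, 0],
  [0, 0, 0, 1, 0, 0, 2, 0, 0, 1, 0, 0, 2, 0, 0, 0],
  [1, 0, 0, 0, 0, 2, 0, 0, 0, 0, 2, 0, 0, 0, 0, 1],
  [0, 0, 1, 0, 0, 0, 0, 2, 3, 0, 0, 0, 0, 3, 0, 0],
  [0, 0, 1, 0, 0, 0, 0, 6, 3, 0, 0, 0, 0, 1, 0, 0],
  [0, 0, 1, 0, 0, 0, 0, 2, 6, 0, 0, 0, 0, 6, 0, 0],
  [0, 0, 0, 1, 0, 0, 3, 0, 0, 1, 0, 0, 6, 0, 0, 0],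
  [1, 0, 0, 0, 0, 3, 0, 0, 0, 0, 2, 0, 0, 0, 0, 3],
  [0, 0, 1, 0, 0, 0, 0, 2, 1, 0, 0, 0, 0, 2, 0, 0],
  [0, 1, 0, 0, 3, 0, 0, 0, 0, 0, 0, 1, 0, 0, 6, 0],
  [0, 1, 0, 0, 1, 0, 0, 0, 0, 0, 0, 3, 0, 0, 6, 0],
  [0, 0, 1, 0, 0, 0, 0, 6, 6, 0, 0, 0, 0, 2, 0, 0],
  [0, 1, 0, 0, 6, 0, 0, 0, 0, 0, 0, 3, 0, 0, 1, 0],
  [0, 1, 0, 0, 3, 0, 0, 0, 0, 0, 0, 2, 0, 0, 3, 0],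
  [0, 1, 0, 0, 3, 0, 0, 0, 0, 0, 0, 6, 0, 0, 1, 0],
  [0, 0, 1, 0, 0, 0, 0, 3, 3, 0, 0, 0, 0, 2, 0, 0],
  [0, 1, 0, 0, 6, 0, 0, 0, 0, 0, 0, 1, 0, 0, 3, 0],
  [0, 0, 1, 0, 0, 0, 0, 6, 2, 0, 0, 0, 0, 6, 0, 0],
  [1, 0, 0, 0, 0, 2, 0, 0, 0, 0, 1, 0, 0, 0, 0, 2],
  [0, 0, 0, 1, 0, 0, 6, 0, 0, 1, 0, 0, 3, 0, 0, 0],
  [0, 0, 0, 1, 0, 0, 2, 0, 0, 6, 0, 0, 6, 0, 0, 0],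
  [1, 0, 0, 0, 0, 6, 0, 0, 0, 0, 3, 0, 0, 0, 0, 1],
  [0, 0, 0, 1, 0, 0, 6, 0, 0, 6, 0, 0, 2, 0, 0, 0],
  [0, 1, 0, 0, 6, 0, 0, 0, 0, 0, 2, 0, 0, 0, 0, 3],
  [0, 0, 1, 0, 0, 0, 0, 2, 0, 3, 0, 0, 6, 0, 0, 0],
  [0, 1, 0, 0, 2, 0, 0, 0, 0, 0, 6, 0, 0, 0, 0, 3],
  [0, 0, 0, 1, 0, 0, 2, 0, 2, 0, 0, 0, 0, 2, 0, 0],
  [1, 0, 0, 0, 0, 6, 0, 0, 0, 0, 0, 6, 0, 0, 1, 0],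
  [0, 0, 0, 1, 0, 0, 6, 0, 3, 0, 0, 0, 0, 2, 0, 0],
  [0, 1, 0, 0, 1, 0, 0, 0, 0, 0, 1, 0, 0, 0, 0, 2],
  [0, 0, 1, 0, 0, 0, 0, 6, 0, 6, 0, 0, 1, 0, 0, 0],
  [0, 0, 1, 0, 0, 0, 0, 1, 0, 6, 0, 0, 6, 0, 0, 0],
  [1, 0, 0, 0, 0, 3, 0, 0, 0, 0, 0, 6, 0, 0, 2, 0],
  [1, 0, 0, 0, 0, 2, 0, 0, 0, 0, 0, 1, 0, 0, 1, 0],
  [0, 0, 1, 0, 0, 0, 0, 3, 0, 2, 0, 0, 6, 0, 0, 0],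
  [0, 1, 0, 0, 3, 0, 0, 0, 0, 0, 1, 0, 0, 0, 0, 3],
  [0, 0, 0, 1, 0, 0, 3, 0, 6, 0, 0, 0, 0, 2, 0, 0],
  [0, 0, 0, 1, 0, 0, 1, 0, 2, 0, 0, 0, 0, 1, 0, 0],
  [0, 0, 0, 1, 0, 0, 3, 0, 3, 0, 0, 0, 0, 1, 0, 0],
  [1, 0, 0, 0, 0, 6, 0, 0, 0, 0, 0, 3, 0, 0, 2, 0],
  [0, 0, 0, 1, 0, 0, 1, 0, 1, 0, 0, 0, 0, 2, 0, 0],
  [1, 0, 0, 0, 0, 1, 0, 0, 0, 0, 0, 2, 0, 0, 1, 0],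
  [1, 0, 0, 0, 0, 2, 0, 0, 0, 0, 0, 3, 0, 0, 6, 0],
  [1, 0, 0, 0, 0, 2, 0, 0, 0, 0, 0, 2, 0, 0, 2, 0],
  [0, 0, 0, 1, 0, 0, 2, 0, 1, 0, 0, 0, 0, 1, 0, 0],
  [1, 0, 0, 0, 0, 1, 0, 0, 0, 0, 0, 3, 0, 0, 3, 0],
  [0, 0, 0, 1, 0, 0, 1, 0, 6, 0, 0, 0, 0, 6, 0, 0],
  [0, 1, 0, 0, 3, 0, 0, 0, 0, 0, 2, 0, 0, 0, 0, 6],
  [0, 0, 1, 0, 0, 0, 0, 1, 0, 3, 0, 0, 3, 0, 0, 0],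
  [0, 1, 0, 0, 1, 0, 0, 0, 0, 0, 2, 0, 0, 0, 0, 1],
  [0, 0, 1, 0, 0, 0, 0, 1, 0, 1, 0, 0, 2, 0, 0, 0],
  [0, 0, 1, 0, 0, 0, 0, 3, 0, 1, 0, 0, 3, 0, 0, 0],
  [0, 0, 1, 0, 0, 0, 0, 3, 0, 6, 0, 0, 2, 0, 0, 0],
  [0, 0, 0, 1, 0, 0, 6, 0, 6, 0, 0, 0, 0, 1, 0, 0],
  [0, 1, 0, 0, 1, 0, 0, 0, 0, 0, 3, 0, 0, 0, 0, 3],
  [1, 0, 0, 0, 0, 3, 0, 0, 0, 0, 0, 3, 0, 0, 1, 0],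
  [0, 0, 0, 1, 0, 0, 3, 0, 1, 0, 0, 0, 0, 3, 0, 0],
  [0, 0, 0, 1, 0, 0, 6, 0, 2, 0, 0, 0, 0, 3, 0, 0],
  [1, 0, 0, 0, 0, 6, 0, 0, 0, 0, 0, 1, 0, 0, 6, 0],
  [1, 0, 0, 0, 0, 1, 0, 0, 0, 0, 0, 1, 0, 0, 2, 0],
  [0, 0, 1, 0, 0, 0, 0, 2, 0, 2, 0, 0, 2, 0, 0, 0],
  [1, 0, 0, 0, 0, 3, 0, 0, 0, 0, 0, 1, 0, 0, 3, 0],
  [1, 0, 0, 0, 0, 1, 0, 0, 0, 0, 6, 0, 0, 0, 0, 3],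
  [0, 0, 0, 1, 0, 0, 3, 0, 0, 6, 0, 0, 1, 0, 0, 0],
  [1, 0, 0, 0, 0, 3, 0, 0, 0, 0, 3, 0, 0, 0, 0, 2],
  [0, 0, 1, 0, 0, 0, 0, 3, 1, 0, 0, 0, 0, 6, 0, 0],
  [0, 1, 0, 0, 1, 0, 0, 0, 0, 0, 0, 1, 0, 0, 1, 0],
  [0, 0, 1, 0, 0, 0, 0, 1, 2, 0, 0, 0, 0, 2, 0, 0],
  [1, 0, 0, 0, 0, 6, 0, 0, 0, 0, 1, 0, 0, 0, 0, 3],
  [0, 0, 0, 1, 0, 0, 1, 0, 0, 1, 0, 0, 1, 0, 0, 0],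
  [0, 1, 0, 0, 2, 0, 0, 0, 0, 0, 0, 2, 0, 0, 1, 0],
  [0, 0, 0, 1, 0, 0, 2, 0, 0, 3, 0, 0, 3, 0, 0, 0],
  [1, 0, 0, 0, 0, 2, 0, 0, 0, 0, 6, 0, 0, 0, 0, 6],
  [0, 0, 1, 0, 0, 0, 0, 2, 2, 0, 0, 0, 0, 1, 0, 0],
  [0, 0, 1, 0, 0, 0, 0, 6, 1, 0, 0, 0, 0, 3, 0, 0],
  [0, 1, 0, 0, 6, 0, 0, 0, 0, 0, 0, 2, 0, 0, 6, 0],
  [1, 0, 0, 0, 0, 2, 0, 0, 0, 0, 3, 0, 0, 0, 0, 3],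
  [0, 0, 0, 1, 0, 0, 6, 0, 0, 3, 0, 0, 1, 0, 0, 0],
  [0, 0, 0, 1, 0, 0, 2, 0, 0, 2, 0, 0, 1, 0, 0, 0],
  [0, 1, 0, 0, 2, 0, 0, 0, 0, 0, 0, 1, 0, 0, 2, 0],
  [0, 0, 1, 0, 0, 0, 0, 1, 6, 0, 0, 0, 0, 3, 0, 0],
  [0, 1, 0, 0, 2, 0, 0, 0, 0, 0, 0, 6, 0, 0, 6, 0],
  [0, 1, 0, 0, 6, 0, 0, 0, 0, 0, 0, 6, 0, 0, 2, 0],
  [0, 1, 0, 0, 2, 0, 0, 0, 0, 0, 1, 0, 0, 0, 0, 1],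
  [0, 0, 0, 1, 0, 0, 2, 0, 6, 0, 0, 0, 0, 3, 0, 0],
  [0, 1, 0, 0, 3, 0, 0, 0, 0, 0, 3, 0, 0, 0, 0, 1],
  [0, 0, 0, 1, 0, 0, 1, 0, 3, 0, 0, 0, 0, 3, 0, 0],
  [1, 0, 0, 0, 0, 1, 0, 0, 0, 0, 0, 6, 0, 0, 6, 0]]

/-- Right products with the generators. -/
def nextP : List (List ℕ) := [
  [1, 2, 3],
  [4, 5, 6],
  [7, 8, 9],
  [10, 11, 0],
  [12, 13, 14],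
  [15, 16, 17],
  [18, 19, 1],
  [20, 21, 22],
  [23, 15, 24],
  [25, 3, 2],
  [14, 26, 27],
  [28, 24, 15],
  [29, 30, 31],
  [32, 33, 34],
  [35, 36, 4],
  [37, 0, 11],
  [38, 32, 39],
  [40, 6, 5],
  [31, 41, 42],
  [43, 39, 32],
  [44, 38, 45],
  [0, 46, 47],
  [48, 49, 7],
  [50, 51, 52],
  [53, 9, 8],
  [45, 54, 55],
  [9, 56, 57],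
  [58, 59, 10],
  [60, 61, 62],
  [63, 64, 65],
  [66, 67, 68],
  [69, 70, 12],
  [71, 1, 19],
  [72, 66, 73],
  [22, 14, 13],
  [65, 74, 75],
  [76, 73, 66],
  [77, 72, 78],
  [79, 80, 81],
  [82, 17, 16],
  [78, 83, 84],
  [17, 85, 86],
  [87, 88, 18],
  [26, 89, 90],
  [64, 87, 91],
  [92, 69, 20],
  [84, 79, 93],
  [89, 22, 21],
  [91, 94, 71],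
  [73, 93, 79],
  [95, 84, 83],
  [2, 75, 74],
  [85, 96, 23],
  [83, 68, 67],
  [24, 97, 98],
  [88, 63, 25],
  [99, 76, 95],
  [100, 27, 26],
  [75, 71, 94],
  [80, 95, 76],
  [93, 99, 77],
  [3, 91, 87],
  [86, 101, 28],
  [102, 103, 104],
  [105, 106, 107],
  [108, 109, 29],
  [62, 4, 36],
  [110, 105, 53],
  [11, 31, 30],
  [104, 111, 112],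
  [113, 53, 105],
  [57, 110, 48],
  [8, 114, 115],
  [54, 34, 33],
  [34, 52, 51],
  [116, 117, 35],
  [41, 10, 59],
  [103, 116, 60],
  [118, 108, 37],
  [119, 7, 49],
  [5, 112, 111],
  [52, 45, 38],
  [49, 107, 106],
  [39, 120, 50],
  [117, 102, 40],
  [56, 113, 119],
  [46, 42, 41],
  [112, 62, 61],
  [114, 119, 113],
  [6, 60, 116],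
  [51, 121, 43],
  [120, 122, 44],
  [107, 115, 114],
  [109, 47, 46],
  [47, 118, 58],
  [106, 57, 56],
  [111, 35, 117],
  [36, 104, 103],
  [121, 55, 54],
  [122, 43, 121],
  [55, 50, 120],
  [33, 44, 122],
  [21, 100, 123],
  [124, 98, 97],
  [94, 25, 63],
  [90, 12, 70],
  [101, 124, 82],
  [19, 65, 64],
  [123, 92, 125],
  [96, 82, 124],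
  [16, 126, 127],
  [68, 81, 80],
  [27, 20, 69],
  [74, 18, 88],
  [13, 125, 92],
  [81, 78, 72],
  [125, 90, 89],
  [126, 23, 96],
  [97, 127, 126],
  [98, 86, 85],
  [70, 123, 100],
  [67, 77, 99],
  [127, 28, 101],
  [61, 40, 102],
  [59, 29, 109],
  [42, 37, 108],
  [30, 58, 118],
  [115, 48, 110]]

/-- Descent. -/
def parP : List (ℕ × ℕ) := [(0, 0), (0, 0), (0, 1), (0, 2), (1, 0), (1, 1), (1, 2), (2, 0), (2, 1), (2, 2), (3, 0), (3, 1), (4, 0), (4, 1), (4, 2), (5, 0), (5, 1), (5, 2), (6, 0), (6, 1), (7, 0), (7, 1), (7, 2), (8, 0), (8, 2), (9, 0), (10, 1), (10, 2), (11, 0), (12, 0), (12, 1), (12, 2), (13, 0), (13, 1), (13, 2), (14, 0), (14, 1), (15, 0), (16, 0), (16,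 2), (17, 0), (18, 1), (18, 2), (19, 0), (20, 0), (20, 2), (21, 1), (21, 2), (22, 0), (22, 1), (23, 0), (23, 1), (23, 2), (24, 0), (25, 1), (25, 2), (26, 1), (26, 2), (27, 0), (27, 1), (28, 0), (28, 1), (28, 2), (29, 0), (29, 1), (29, 2), (30, 0), (30, 1), (30, 2), (31, 0), (31, 1), (32, 0), (33, 0), (33, 2), (35, 1), (35, 2), (36, 0), (37, 0), (37, 2), (38, 0), (38, 1), (38, 2), (39, 0), (40, 1), (40, 2), (41, 1), (41, 2), (42, 0), (42, 1), (43, 1), (43, 2), (44, 2), (45, 0), (46, 2), (48, 1), (50, 0), (52, 1), (54, 1), (54, 2), (56, 0), (57, 0), (62, 1), (63, 0), (63, 1), (63, 2), (64, 0), (64, 1), (64, 2), (65, 0), (65, 1), (67, 0), (69, 1), (69, 2), (70, 0), (72, 1),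 (72, 2), (75, 0), (75, 1), (78, 0), (79, 0), (83, 1), (90, 1), (91, 1), (102, 2), (103, 0), (108, 2), (110, 1), (110, 2)]

/-- Classes. -/
def clsP : List ℕ := [0, 4, 3, 1, 2, 1, 2, 1, 1, 1, 2, 1, 4, 3, 2, 3, 4, 3, 2, 3, 3, 4, 3, 4, 1, 3, 3, 4, 3, 1, 3, 2, 3, 1, 3, 2, 3, 3, 1, 3, 3, 1, 1, 3, 3, 3, 3, 2, 1, 3, 1, 3, 3, 3, 3, 3, 3, 1, 1, 3, 3, 2, 1, 4, 3, 1, 3, 4, 3, 1, 3, 3, 4, 1, 3, 4, 3, 3, 3, 4, 3, 2, 1, 1, 3, 2, 3, 4, 3, 1, 3, 3, 3, 3, 2, 4, 3, 3, 4, 2, 3, 4, 2, 1, 2, 1, 1, 1, 2, 1, 1, 3, 2, 1, 1, 3, 2, 1, 1, 1, 3, 1, 3, 2, 3, 4, 3, 2]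

/-- Conjugators into the representatives. -/
def witP : List (List ℕ) := [
  [1, 0, 0, 0, 0, 1, 0, 0, 0, 0, 1, 0, 0, 0, 0, 1],
  [0, 1, 0, 0, 1, 0, 0, 0, 0, 0, 0, 2, 0, 0, 2, 0],
  [3, 6, 1, 6, 3, 6, 2, 3, 2, 2, 2, 6, 2, 2, 1, 3],
  [3, 3, 1, 2, 3, 6, 1, 1, 3, 1, 2, 6, 2, 6, 6, 2],
  [0, 0, 8, 8, 0, 0, 5, 7, 8, 4, 0, 0, 7, 7, 0, 0],
  [6, 3, 1, 1, 0, 4, 0, 5, 7, 0, 8, 0, 6, 6, 1, 2],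
  [0, 0, 4, 4, 4, 8, 0, 0, 5, 5, 0, 0, 0, 0, 7, 5],
  [4, 0, 7, 0, 2, 1, 6, 6, 0, 4, 0, 5, 6, 6, 1, 2],
  [0, 0, 1, 0, 0, 1, 0, 0, 2, 0, 0, 0, 0, 0, 0, 1],
  [0, 0, 1, 0, 1, 0, 0, 0, 0, 1, 0, 0, 0, 0, 0, 1],
  [7, 5, 0, 0, 0, 0, 7, 7, 4, 4, 0, 0, 0, 0, 4, 8],
  [6, 0, 0, 0, 0, 0, 6, 0, 0, 1, 0, 0, 0, 0, 0, 1],
  [0, 1, 0, 0, 2, 0, 0, 0, 0, 0, 1, 0, 0, 0, 0, 1],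
  [2, 1, 3, 1, 6, 3, 1, 6, 2, 2, 2, 6, 6, 6, 3, 2],
  [6, 0, 0, 0, 0, 1, 0, 0, 0, 0, 3, 0, 0, 0, 0, 1],
  [6, 6, 3, 2, 6, 6, 6, 1, 1, 2, 3, 1, 1, 2, 6, 2],
  [0, 0, 0, 2, 0, 0, 1, 0, 0, 1, 0, 0, 2, 0, 0, 0],
  [0, 1, 0, 0, 1, 0, 0, 0, 0, 0, 0, 2, 0, 0, 2, 0],
  [3, 0, 0, 0, 0, 6, 0, 0, 0, 0, 1, 0, 0, 0, 0, 1],
  [0, 6, 0, 0, 1, 0, 0, 0, 0, 0, 6, 0, 0, 0, 0, 1],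
  [2, 1, 3, 1, 6, 3, 1, 6, 6, 6, 6, 1, 2, 2, 1, 3],
  [0, 6, 0, 0, 6, 0, 0, 0, 0, 0, 1, 0, 0, 0, 0, 1],
  [0, 6, 0, 0, 6, 0, 0, 0, 0, 0, 1, 0, 0, 0, 0, 1],
  [0, 0, 1, 0, 0, 0, 0, 2, 1, 0, 0, 0, 0, 2, 0, 0],
  [2, 6, 3, 1, 1, 6, 6, 1, 7, 0, 4, 0, 0, 7, 0, 8],
  [0, 6, 0, 0, 2, 0, 0, 0, 0, 0, 3, 0, 0, 0, 0, 1],
  [0, 1, 0, 0, 2, 0, 0, 0, 0, 0, 1, 0, 0, 0, 0, 1],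
  [2, 0, 0, 0, 0, 1, 0, 0, 0, 0, 0, 2, 0, 0, 2, 0],
  [1, 0, 0, 0, 0, 2, 0, 0, 0, 0, 2, 0, 0, 0, 0, 1],
  [2, 2, 2, 2, 1, 2, 2, 1, 2, 1, 2, 1, 1, 1, 2, 2],
  [8, 4, 0, 0, 8, 8, 0, 0, 0, 0, 5, 4, 0, 0, 4, 5],
  [0, 0, 8, 8, 4, 8, 0, 0, 0, 0, 5, 7, 7, 7, 0, 0],
  [4, 4, 0, 0, 7, 5, 0, 0, 0, 0, 4, 7, 0, 0, 4, 5],
  [0, 4, 0, 5, 7, 0, 8, 0, 6, 3, 1, 1, 6, 6, 1, 2],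
  [0, 0, 4, 7, 7, 5, 0, 0, 8, 8, 0, 0, 0, 0, 4, 5],
  [8, 4, 0, 0, 0, 0, 5, 7, 0, 0, 4, 4, 7, 7, 0, 0],
  [8, 4, 0, 0, 0, 0, 5, 4, 4, 4, 0, 0, 0, 0, 4, 5],
  [7, 5, 0, 0, 5, 5, 0, 0, 0, 0, 5, 4, 0, 0, 4, 5],
  [0, 7, 0, 4, 7, 0, 8, 0, 1, 2, 3, 3, 6, 6, 1, 2],
  [7, 7, 0, 0, 0, 0, 4, 7, 8, 4, 0, 0, 0, 0, 4, 5],
  [7, 5, 0, 0, 0, 0, 5, 4, 7, 7, 0, 0, 0, 0, 4, 5],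
  [3, 0, 0, 0, 0, 6, 0, 0, 0, 0, 1, 0, 0, 0, 0, 1],
  [2, 2, 2, 2, 2, 1, 2, 1, 2, 2, 1, 1, 2, 1, 1, 2],
  [0, 0, 5, 4, 5, 7, 0, 0, 7, 7, 0, 0, 0, 0, 4, 5],
  [7, 7, 0, 0, 4, 8, 0, 0, 0, 0, 4, 7, 0, 0, 4, 5],
  [0, 0, 5, 4, 8, 4, 0, 0, 8, 8, 0, 0, 0, 0, 4, 5],
  [7, 5, 0, 0, 8, 8, 0, 0, 0, 0, 4, 7, 0, 0, 4, 5],
  [8, 8, 0, 0, 0, 0, 8, 4, 5, 7, 0, 0, 0, 0, 5, 5],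
  [0, 1, 0, 0, 2, 0, 0, 0, 0, 0, 1, 0, 0, 0, 0, 1],
  [0, 0, 5, 4, 7, 7, 0, 0, 7, 5, 0, 0, 0, 0, 4, 5],
  [7, 0, 8, 0, 0, 4, 0, 5, 3, 6, 2, 2, 6, 6, 1, 2],
  [7, 7, 0, 0, 7, 5, 0, 0, 0, 0, 5, 4, 0, 0, 4, 5],
  [7, 7, 0, 0, 0, 0, 5, 4, 5, 7, 0, 0, 0, 0, 4, 5],
  [0, 0, 8, 5, 8, 8, 0, 0, 7, 5, 0, 0, 0, 0, 4, 5],
  [4, 4, 0, 0, 0, 0, 7, 8, 8, 4, 0, 0, 0, 0, 4, 5],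
  [4, 4, 0, 0, 8, 4, 0, 0, 0, 0, 5, 4, 0, 0, 4, 5],
  [0, 0, 5, 4, 4, 4, 0, 0, 8, 4, 0, 0, 0, 0, 4, 5],
  [7, 0, 8, 0, 1, 2, 3, 3, 0, 7, 0, 4, 6, 6, 1, 2],
  [2, 2, 1, 1, 2, 2, 2, 2, 2, 1, 2, 1, 2, 1, 1, 2],
  [4, 8, 0, 0, 5, 5, 0, 0, 0, 0, 4, 7, 0, 0, 4, 5],
  [7, 5, 0, 0, 0, 0, 8, 5, 8, 8, 0, 0, 0, 0, 4, 5],
  [0, 0, 4, 4, 7, 7, 0, 0, 4, 8, 0, 0, 0, 0, 7, 5],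
  [6, 3, 1, 1, 5, 0, 4, 0, 0, 4, 0, 5, 6, 6, 1, 2],
  [0, 6, 0, 0, 3, 0, 0, 0, 0, 0, 0, 2, 0, 0, 2, 0],
  [6, 6, 3, 2, 6, 6, 6, 1, 3, 6, 1, 6, 3, 6, 2, 3],
  [2, 1, 3, 3, 1, 1, 6, 3, 6, 1, 1, 6, 1, 6, 3, 2],
  [6, 3, 1, 6, 1, 2, 6, 2, 6, 6, 6, 1, 2, 2, 1, 3],
  [0, 0, 0, 2, 0, 0, 1, 0, 2, 0, 0, 0, 0, 2, 0, 0],
  [1, 0, 0, 0, 0, 6, 0, 0, 0, 0, 3, 0, 0, 0, 0, 1],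
  [3, 3, 1, 2, 1, 2, 6, 6, 2, 3, 6, 1, 2, 6, 6, 2],
  [0, 6, 0, 0, 3, 0, 0, 0, 0, 0, 2, 0, 0, 0, 0, 1],
  [1, 2, 6, 2, 2, 1, 6, 2, 2, 2, 2, 6, 2, 2, 1, 3],
  [0, 0, 2, 0, 0, 0, 0, 2, 0, 2, 0, 0, 1, 0, 0, 0],
  [1, 6, 3, 2, 1, 3, 3, 1, 3, 3, 1, 2, 1, 2, 6, 6],
  [0, 1, 0, 0, 6, 0, 0, 0, 0, 0, 6, 0, 0, 0, 0, 1],
  [1, 0, 0, 0, 0, 1, 0, 0, 0, 0, 1, 0, 0, 0, 0, 1],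
  [6, 0, 0, 0, 0, 1, 0, 0, 0, 0, 3, 0, 0, 0, 0, 1],
  [6, 6, 3, 2, 2, 2, 2, 6, 3, 6, 2, 3, 1, 2, 6, 2],
  [3, 0, 0, 0, 0, 1, 0, 0, 0, 0, 6, 0, 0, 0, 0, 1],
  [0, 0, 0, 2, 0, 0, 2, 0, 1, 0, 0, 0, 0, 2, 0, 0],
  [2, 2, 1, 3, 6, 6, 6, 1, 2, 1, 6, 2, 6, 3, 2, 3],
  [0, 0, 3, 0, 0, 0, 0, 2, 1, 0, 0, 0, 0, 3, 0, 0],
  [1, 6, 3, 2, 3, 2, 2, 3, 6, 6, 2, 1, 3, 6, 1, 1],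
  [6, 1, 1, 6, 3, 1, 2, 6, 1, 2, 6, 6, 3, 3, 1, 2],
  [2, 2, 1, 3, 6, 6, 6, 1, 3, 6, 2, 3, 1, 2, 6, 2],
  [0, 0, 1, 0, 0, 0, 0, 2, 1, 0, 0, 0, 0, 2, 0, 0],
  [1, 1, 2, 6, 2, 2, 2, 6, 1, 2, 3, 1, 1, 2, 6, 2],
  [3, 0, 0, 0, 0, 6, 0, 0, 0, 0, 1, 0, 0, 0, 0, 1],
  [6, 6, 6, 1, 3, 3, 6, 1, 1, 2, 3, 1, 1, 2, 6, 2],
  [2, 1, 3, 3, 6, 6, 2, 1, 1, 3, 3, 1, 1, 6, 3, 2],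
  [3, 6, 6, 2, 2, 1, 2, 3, 2, 2, 6, 1, 3, 3, 1, 3],
  [0, 1, 0, 0, 3, 0, 0, 0, 0, 0, 3, 0, 0, 0, 0, 1],
  [0, 1, 0, 0, 1, 0, 0, 0, 0, 0, 2, 0, 0, 0, 0, 1],
  [1, 0, 0, 0, 0, 3, 0, 0, 0, 0, 6, 0, 0, 0, 0, 1],
  [1, 0, 0, 0, 0, 1, 0, 0, 0, 0, 1, 0, 0, 0, 0, 1],
  [0, 0, 3, 0, 0, 0, 0, 2, 6, 0, 0, 0, 0, 2, 0, 0],
  [1, 0, 0, 0, 0, 1, 0, 0, 0, 0, 1, 0, 0, 0, 0, 1],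
  [3, 0, 0, 0, 0, 6, 0, 0, 0, 0, 1, 0, 0, 0, 0, 1],
  [0, 0, 0, 2, 0, 0, 6, 0, 6, 0, 0, 0, 0, 2, 0, 0],
  [0, 0, 3, 0, 0, 0, 0, 2, 6, 0, 0, 0, 0, 2, 0, 0],
  [3, 6, 2, 3, 1, 2, 6, 2, 3, 3, 6, 1, 1, 1, 1, 3],
  [0, 0, 2, 0, 0, 0, 0, 2, 2, 0, 0, 0, 0, 2, 0, 0],
  [0, 0, 8, 8, 0, 0, 5, 7, 5, 5, 0, 0, 8, 4, 0, 0],
  [2, 1, 6, 6, 8, 0, 5, 0, 0, 4, 0, 5, 6, 6, 1, 2],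
  [5, 5, 0, 0, 0, 0, 8, 8, 0, 0, 5, 7, 8, 4, 0, 0],
  [0, 4, 0, 5, 3, 6, 2, 2, 7, 0, 8, 0, 6, 6, 1, 2],
  [0, 1, 0, 0, 0, 0, 1, 0, 1, 0, 0, 0, 0, 0, 0, 1],
  [0, 0, 1, 0, 3, 0, 0, 0, 0, 6, 0, 0, 0, 0, 0, 1],
  [0, 0, 8, 8, 5, 5, 0, 0, 0, 0, 5, 7, 4, 8, 0, 0],
  [1, 0, 0, 0, 0, 1, 0, 0, 0, 0, 1, 0, 0, 0, 0, 1],
  [6, 3, 2, 2, 6, 6, 2, 1, 6, 3, 1, 1, 6, 6, 1, 2],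
  [4, 8, 0, 0, 0, 0, 4, 7, 7, 7, 0, 0, 0, 0, 4, 5],
  [4, 8, 0, 0, 5, 5, 0, 0, 0, 0, 4, 4, 0, 0, 7, 5],
  [0, 0, 3, 0, 6, 0, 0, 0, 0, 1, 0, 0, 0, 0, 0, 1],
  [7, 0, 8, 0, 6, 3, 1, 1, 0, 4, 0, 5, 6, 6, 1, 2],
  [0, 0, 4, 7, 7, 7, 0, 0, 4, 8, 0, 0, 0, 0, 4, 5],
  [7, 7, 0, 0, 4, 8, 0, 0, 0, 0, 4, 4, 0, 0, 7, 5],
  [1, 2, 3, 3, 0, 7, 0, 4, 7, 0, 8, 0, 6, 6, 1, 2],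
  [1, 0, 0, 0, 0, 0, 2, 0, 0, 1, 0, 0, 0, 0, 0, 1],
  [1, 2, 6, 6, 2, 2, 3, 6, 6, 3, 1, 1, 6, 6, 1, 2],
  [0, 0, 4, 7, 8, 4, 0, 0, 7, 7, 0, 0, 0, 0, 4, 5],
  [0, 4, 0, 5, 4, 0, 7, 0, 2, 1, 6, 6, 6, 6, 1, 2],
  [4, 4, 0, 0, 0, 0, 4, 7, 5, 7, 0, 0, 0, 0, 4, 5],
  [0, 1, 0, 0, 6, 0, 0, 0, 0, 0, 6, 0, 0, 0, 0, 1],
  [2, 1, 6, 2, 2, 1, 3, 1, 2, 2, 2, 6, 2, 2, 1, 3],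
  [0, 1, 0, 0, 3, 0, 0, 0, 0, 0, 0, 3, 0, 0, 2, 0],
  [6, 6, 3, 2, 6, 6, 6, 1, 3, 6, 2, 3, 6, 3, 2, 3],
  [0, 0, 2, 0, 0, 0, 0, 2, 2, 0, 0, 0, 0, 2, 0, 0]]

/-- Generators. -/
def gensE : List (List ℕ) := [
  [1, 0, 0, 0, 0, 1, 0, 0, 0, 0, 2, 0, 0, 0, 0, 2],
  [1, 0, 0, 0, 0, 2, 0, 0, 0, 0, 1, 0, 0, 0, 0, 2],
  [0, 1, 0, 0, 1, 0, 0, 0, 0, 0, 0, 1, 0, 0, 1, 0],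
  [0, 0, 1, 0, 0, 0, 0, 1, 1, 0, 0, 0, 0, 1, 0, 0]]

/-- Elements. -/
def elsE : List (List ℕ) := [
  [1, 0, 0, 0, 0, 1, 0, 0, 0, 0, 1, 0, 0, 0, 0, 1],
  [1, 0, 0, 0, 0, 1, 0, 0, 0, 0, 2, 0, 0, 0, 0, 2],
  [1, 0, 0, 0, 0, 2, 0, 0, 0, 0, 1, 0, 0, 0, 0, 2],
  [0, 1, 0, 0, 1, 0, 0, 0, 0, 0, 0, 1, 0, 0, 1, 0],
  [0, 0, 1, 0, 0, 0, 0, 1, 1, 0, 0, 0, 0, 1, 0, 0],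
  [1, 0, 0, 0, 0, 2, 0, 0, 0, 0, 2, 0, 0, 0, 0, 1],
  [0, 1, 0, 0, 1, 0, 0, 0, 0, 0, 0, 2, 0, 0, 2, 0],
  [0, 0, 1, 0, 0, 0, 0, 1, 2, 0, 0, 0, 0, 2, 0, 0],
  [0, 1, 0, 0, 2, 0, 0, 0, 0, 0, 0, 1, 0, 0, 2, 0],
  [0, 0, 1, 0, 0, 0, 0, 2, 1, 0, 0, 0, 0, 2, 0, 0],
  [0, 0, 0, 1, 0, 0, 1, 0, 0, 1, 0, 0, 1, 0, 0, 0],
  [0, 1, 0, 0, 2, 0, 0, 0, 0, 0, 0, 2, 0, 0, 1, 0],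
  [0, 0, 1, 0, 0, 0, 0, 2, 2, 0, 0, 0, 0, 1, 0, 0],
  [0, 0, 0, 1, 0, 0, 1, 0, 0, 2, 0, 0, 2, 0, 0, 0],
  [0, 0, 0, 1, 0, 0, 2, 0, 0, 1, 0, 0, 2, 0, 0, 0],
  [0, 0, 0, 1, 0, 0, 2, 0, 0, 2, 0, 0, 1, 0, 0, 0]]

/-- Right products with the generators. -/
def nextE : List (List ℕ) := [
  [1, 2, 3, 4],
  [0, 5, 6, 7],
  [5, 0, 8, 9],
  [6, 8, 0, 10],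
  [7, 9, 10, 0],
  [2, 1, 11, 12],
  [3, 11, 1, 13],
  [4, 12, 13, 1],
  [11, 3, 2, 14],
  [12, 4, 14, 2],
  [13, 14, 4, 3],
  [8, 6, 5, 15],
  [9, 7, 15, 5],
  [10, 15, 7, 6],
  [15, 10, 9, 8],
  [14, 13, 12, 11]]

/-- Descent. -/
def parE : List (ℕ × ℕ) := [(0, 0), (0, 0), (0, 1), (0, 2), (0, 3), (1, 1), (1, 2), (1, 3), (2, 2), (2, 3), (3, 3), (5, 2), (5, 3), (6, 3), (8, 3), (11, 3)]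

/-- Classes. -/
def clsE : List ℕ := [0, 1, 1, 1, 1, 1, 1, 1, 1, 1, 1, 1, 1, 1, 1, 1]

/-- Conjugators into the representatives. -/
def witE : List (List ℕ) := [
  [1, 0, 0, 0, 0, 1, 0, 0, 0, 0, 1, 0, 0, 0, 0, 1],
  [2, 2, 2, 2, 1, 2, 2, 1, 2, 1, 2, 1, 1, 1, 2, 2],
  [2, 2, 1, 1, 2, 2, 2, 2, 2, 1, 2, 1, 2, 1, 1, 2],
  [0, 1, 0, 0, 0, 0, 1, 0, 1, 0, 0, 0, 0, 0, 0, 1],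
  [0, 0, 1, 0, 1, 0, 0, 0, 0, 1, 0, 0, 0, 0, 0, 1],
  [2, 2, 2, 2, 2, 1, 2, 1, 2, 2, 1, 1, 2, 1, 1, 2],
  [0, 0, 1, 0, 0, 1, 0, 0, 2, 0, 0, 0, 0, 0, 0, 1],
  [0, 0, 1, 0, 3, 0, 0, 0, 0, 6, 0, 0, 0, 0, 0, 1],
  [1, 2, 6, 6, 2, 2, 3, 6, 6, 3, 1, 1, 6, 6, 1, 2],
  [0, 1, 0, 0, 2, 0, 0, 0, 0, 0, 1, 0, 0, 0, 0, 1],
  [1, 0, 0, 0, 0, 1, 0, 0, 0, 0, 1, 0, 0, 0, 0, 1],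
  [6, 3, 2, 2, 6, 6, 2, 1, 6, 3, 1, 1, 6, 6, 1, 2],
  [0, 0, 3, 0, 6, 0, 0, 0, 0, 1, 0, 0, 0, 0, 0, 1],
  [6, 0, 0, 0, 0, 0, 6, 0, 0, 1, 0, 0, 0, 0, 0, 1],
  [3, 0, 0, 0, 0, 6, 0, 0, 0, 0, 1, 0, 0, 0, 0, 1],
  [1, 0, 0, 0, 0, 0, 2, 0, 0, 1, 0, 0, 0, 0, 0, 1]]

/-- Generators. -/
def gensA : List (List ℕ) := [
  [1, 0, 0, 0, 0, 1, 0, 0, 0, 0, 2, 0, 0, 0, 0, 2],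
  [1, 0, 0, 0, 0, 2, 0, 0, 0, 0, 1, 0, 0, 0, 0, 2],
  [0, 1, 0, 0, 1, 0, 0, 0, 0, 0, 0, 1, 0, 0, 1, 0],
  [0, 0, 1, 0, 0, 0, 0, 1, 1, 0, 0, 0, 0, 1, 0, 0],
  [1, 0, 0, 0, 0, 1, 0, 0, 0, 0, 3, 0, 0, 0, 0, 6]]

/-- Elements. -/
def elsA : List (List ℕ) := [
  [1, 0, 0, 0, 0, 1, 0, 0, 0, 0, 1, 0, 0, 0, 0, 1],
  [1, 0, 0, 0, 0, 1, 0, 0, 0, 0, 2, 0, 0, 0, 0, 2],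
  [1, 0, 0, 0, 0, 2, 0, 0, 0, 0, 1, 0, 0, 0, 0, 2],
  [0, 1, 0, 0, 1, 0, 0, 0, 0, 0, 0, 1, 0, 0, 1, 0],
  [0, 0, 1, 0, 0, 0, 0, 1, 1, 0, 0, 0, 0, 1, 0, 0],
  [1, 0, 0, 0, 0, 1, 0, 0, 0, 0, 3, 0, 0, 0, 0, 6],
  [1, 0, 0, 0, 0, 2, 0, 0, 0, 0, 2, 0, 0, 0, 0, 1],
  [0, 1, 0, 0, 1, 0, 0, 0, 0, 0, 0, 2, 0, 0, 2, 0],
  [0, 0, 1, 0, 0, 0, 0, 1, 2, 0, 0, 0, 0, 2, 0, 0],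
  [1, 0, 0, 0, 0, 1, 0, 0, 0, 0, 6, 0, 0, 0, 0, 3],
  [0, 1, 0, 0, 2, 0, 0, 0, 0, 0, 0, 1, 0, 0, 2, 0],
  [0, 0, 1, 0, 0, 0, 0, 2, 1, 0, 0, 0, 0, 2, 0, 0],
  [1, 0, 0, 0, 0, 2, 0, 0, 0, 0, 3, 0, 0, 0, 0, 3],
  [0, 0, 0, 1, 0, 0, 1, 0, 0, 1, 0, 0, 1, 0, 0, 0],
  [0, 1, 0, 0, 1, 0, 0, 0, 0, 0, 0, 6, 0, 0, 3, 0],
  [0, 0, 1, 0, 0, 0, 0, 2, 6, 0, 0, 0, 0, 6, 0, 0],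
  [0, 1, 0, 0, 1, 0, 0, 0, 0, 0, 0, 3, 0, 0, 6, 0],
  [0, 0, 1, 0, 0, 0, 0, 1, 3, 0, 0, 0, 0, 6, 0, 0],
  [0, 1, 0, 0, 2, 0, 0, 0, 0, 0, 0, 2, 0, 0, 1, 0],
  [0, 0, 1, 0, 0, 0, 0, 2, 2, 0, 0, 0, 0, 1, 0, 0],
  [1, 0, 0, 0, 0, 2, 0, 0, 0, 0, 6, 0, 0, 0, 0, 6],
  [0, 0, 0, 1, 0, 0, 1, 0, 0, 2, 0, 0, 2, 0, 0, 0],
  [0, 0, 1, 0, 0, 0, 0, 2, 3, 0, 0, 0, 0, 3, 0, 0],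
  [0, 0, 1, 0, 0, 0, 0, 1, 6, 0, 0, 0, 0, 3, 0, 0],
  [0, 0, 0, 1, 0, 0, 2, 0, 0, 1, 0, 0, 2, 0, 0, 0],
  [0, 1, 0, 0, 2, 0, 0, 0, 0, 0, 0, 6, 0, 0, 6, 0],
  [0, 1, 0, 0, 2, 0, 0, 0, 0, 0, 0, 3, 0, 0, 3, 0],
  [0, 0, 0, 1, 0, 0, 2, 0, 0, 3, 0, 0, 3, 0, 0, 0],
  [0, 0, 0, 1, 0, 0, 1, 0, 0, 6, 0, 0, 3, 0, 0, 0],
  [0, 0, 0, 1, 0, 0, 2, 0, 0, 6, 0, 0, 6, 0, 0, 0],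
  [0, 0, 0, 1, 0, 0, 1, 0, 0, 3, 0, 0, 6, 0, 0, 0],
  [0, 0, 0, 1, 0, 0, 2, 0, 0, 2, 0, 0, 1, 0, 0, 0]]

/-- Right products with the generators. -/
def nextA : List (List ℕ) := [
  [1, 2, 3, 4, 5],
  [0, 6, 7, 8, 9],
  [6, 0, 10, 11, 12],
  [7, 10, 0, 13, 14],
  [8, 11, 13, 0, 15],
  [9, 12, 16, 17, 1],
  [2, 1, 18, 19, 20],
  [3, 18, 1, 21, 16],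
  [4, 19, 21, 1, 22],
  [5, 20, 14, 23, 0],
  [18, 3, 2, 24, 25],
  [19, 4, 24, 2, 23],
  [20, 5, 26, 22, 6],
  [21, 24, 4, 3, 27],
  [16, 25, 9, 28, 7],
  [22, 23, 29, 20, 8],
  [14, 26, 5, 30, 3],
  [23, 22, 30, 5, 11],
  [10, 7, 6, 31, 26],
  [11, 8, 31, 6, 17],
  [12, 9, 25, 15, 2],
  [13, 31, 8, 7, 29],
  [15, 17, 27, 12, 4],
  [17, 15, 28, 9, 19],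
  [31, 13, 11, 10, 30],
  [26, 14, 20, 29, 18],
  [25, 16, 12, 27, 10],
  [29, 30, 22, 26, 21],
  [30, 29, 23, 14, 24],
  [27, 28, 15, 25, 13],
  [28, 27, 17, 16, 31],
  [24, 21, 19, 18, 28]]

/-- Descent. -/
def parA : List (ℕ × ℕ) := [(0, 0), (0, 0), (0, 1), (0, 2), (0, 3), (0, 4), (1, 1), (1, 2), (1, 3), (1, 4), (2, 2), (2, 3), (2, 4), (3, 3), (3, 4), (4, 4), (5, 2), (5, 3), (6, 2), (6, 3), (6, 4), (7, 3), (8, 4), (9, 3), (10, 3), (10, 4), (12, 2), (13, 4), (14, 3), (15, 2), (16, 3), (18, 3)]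

/-- Classes. -/
def clsA : List ℕ := [0, 1, 1, 1, 1, 2, 1, 1, 1, 2, 1, 1, 2, 1, 1, 3, 1, 3, 1, 1, 2, 1, 3, 3, 1, 1, 1, 3, 3, 3, 3, 1]

/-- Conjugators into the representatives. -/
def witA : List (List ℕ) := [
  [1, 0, 0, 0, 0, 1, 0, 0, 0, 0, 1, 0, 0, 0, 0, 1],
  [2, 2, 2, 2, 1, 2, 2, 1, 2, 1, 2, 1, 1, 1, 2, 2],
  [2, 2, 1, 1, 2, 2, 2, 2, 2, 1, 2, 1, 2, 1, 1, 2],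
  [0, 1, 0, 0, 0, 0, 1, 0, 1, 0, 0, 0, 0, 0, 0, 1],
  [0, 0, 1, 0, 1, 0, 0, 0, 0, 1, 0, 0, 0, 0, 0, 1],
  [0, 0, 8, 8, 0, 0, 5, 7, 8, 4, 0, 0, 7, 7, 0, 0],
  [2, 2, 2, 2, 2, 1, 2, 1, 2, 2, 1, 1, 2, 1, 1, 2],
  [0, 0, 1, 0, 0, 1, 0, 0, 2, 0, 0, 0, 0, 0, 0, 1],
  [0, 0, 1, 0, 3, 0, 0, 0, 0, 6, 0, 0, 0, 0, 0, 1],
  [0, 0, 8, 8, 0, 0, 5, 7, 5, 5, 0, 0, 8, 4, 0, 0],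
  [1, 2, 6, 6, 2, 2, 3, 6, 6, 3, 1, 1, 6, 6, 1, 2],
  [0, 1, 0, 0, 2, 0, 0, 0, 0, 0, 1, 0, 0, 0, 0, 1],
  [7, 7, 0, 0, 4, 8, 0, 0, 0, 0, 4, 4, 0, 0, 7, 5],
  [1, 0, 0, 0, 0, 1, 0, 0, 0, 0, 1, 0, 0, 0, 0, 1],
  [0, 4, 0, 5, 7, 0, 8, 0, 6, 3, 1, 1, 6, 6, 1, 2],
  [0, 0, 5, 4, 8, 4, 0, 0, 8, 8, 0, 0, 0, 0, 4, 5],
  [7, 0, 8, 0, 0, 4, 0, 5, 3, 6, 2, 2, 6, 6, 1, 2],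
  [0, 0, 4, 7, 7, 5, 0, 0, 8, 8, 0, 0, 0, 0, 4, 5],
  [6, 3, 2, 2, 6, 6, 2, 1, 6, 3, 1, 1, 6, 6, 1, 2],
  [0, 0, 3, 0, 6, 0, 0, 0, 0, 1, 0, 0, 0, 0, 0, 1],
  [4, 8, 0, 0, 5, 5, 0, 0, 0, 0, 4, 4, 0, 0, 7, 5],
  [6, 0, 0, 0, 0, 0, 6, 0, 0, 1, 0, 0, 0, 0, 0, 1],
  [0, 0, 5, 4, 5, 7, 0, 0, 7, 7, 0, 0, 0, 0, 4, 5],
  [0, 0, 4, 7, 8, 4, 0, 0, 7, 7, 0, 0, 0, 0, 4, 5],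
  [3, 0, 0, 0, 0, 6, 0, 0, 0, 0, 1, 0, 0, 0, 0, 1],
  [0, 4, 0, 5, 4, 0, 7, 0, 2, 1, 6, 6, 6, 6, 1, 2],
  [0, 7, 0, 4, 7, 0, 8, 0, 1, 2, 3, 3, 6, 6, 1, 2],
  [4, 8, 0, 0, 0, 0, 4, 7, 7, 7, 0, 0, 0, 0, 4, 5],
  [8, 4, 0, 0, 0, 0, 5, 4, 4, 4, 0, 0, 0, 0, 4, 5],
  [7, 5, 0, 0, 0, 0, 8, 5, 8, 8, 0, 0, 0, 0, 4, 5],
  [7, 5, 0, 0, 0, 0, 5, 4, 7, 7, 0, 0, 0, 0, 4, 5],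
  [1, 0, 0, 0, 0, 0, 2, 0, 0, 1, 0, 0, 0, 0, 0, 1]]

/-- Generators. -/
def gensQ : List (List ℕ) := [
  [1, 0, 0, 0, 0, 1, 0, 0, 0, 0, 2, 0, 0, 0, 0, 2],
  [1, 0, 0, 0, 0, 2, 0, 0, 0, 0, 1, 0, 0, 0, 0, 2],
  [0, 1, 0, 0, 1, 0, 0, 0, 0, 0, 0, 1, 0, 0, 1, 0],
  [0, 0, 1, 0, 0, 0, 0, 1, 1, 0, 0, 0, 0, 1, 0, 0],
  [0, 1, 0, 0, 6, 0, 0, 0, 0, 0, 1, 0, 0, 0, 0, 6]]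

/-- Elements. -/
def elsQ : List (List ℕ) := [
  [1, 0, 0, 0, 0, 1, 0, 0, 0, 0, 1, 0, 0, 0, 0, 1],
  [1, 0, 0, 0, 0, 1, 0, 0, 0, 0, 2, 0, 0, 0, 0, 2],
  [1, 0, 0, 0, 0, 2, 0, 0, 0, 0, 1, 0, 0, 0, 0, 2],
  [0, 1, 0, 0, 1, 0, 0, 0, 0, 0, 0, 1, 0, 0, 1, 0],
  [0, 0, 1, 0, 0, 0, 0, 1, 1, 0, 0, 0, 0, 1, 0, 0],
  [0, 1, 0, 0, 6, 0, 0, 0, 0, 0, 1, 0, 0, 0, 0, 6],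
  [1, 0, 0, 0, 0, 2, 0, 0, 0, 0, 2, 0, 0, 0, 0, 1],
  [0, 1, 0, 0, 1, 0, 0, 0, 0, 0, 0, 2, 0, 0, 2, 0],
  [0, 0, 1, 0, 0, 0, 0, 1, 2, 0, 0, 0, 0, 2, 0, 0],
  [0, 1, 0, 0, 6, 0, 0, 0, 0, 0, 2, 0, 0, 0, 0, 3],
  [0, 1, 0, 0, 2, 0, 0, 0, 0, 0, 0, 1, 0, 0, 2, 0],
  [0, 0, 1, 0, 0, 0, 0, 2, 1, 0, 0, 0, 0, 2, 0, 0],
  [0, 1, 0, 0, 3, 0, 0, 0, 0, 0, 1, 0, 0, 0, 0, 3],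
  [0, 0, 0, 1, 0, 0, 1, 0, 0, 1, 0, 0, 1, 0, 0, 0],
  [1, 0, 0, 0, 0, 3, 0, 0, 0, 0, 0, 1, 0, 0, 3, 0],
  [0, 0, 1, 0, 0, 0, 0, 6, 0, 1, 0, 0, 6, 0, 0, 0],
  [0, 1, 0, 0, 3, 0, 0, 0, 0, 0, 2, 0, 0, 0, 0, 6],
  [1, 0, 0, 0, 0, 6, 0, 0, 0, 0, 0, 1, 0, 0, 6, 0],
  [0, 0, 0, 1, 0, 0, 6, 0, 1, 0, 0, 0, 0, 6, 0, 0],
  [1, 0, 0, 0, 0, 1, 0, 0, 0, 0, 3, 0, 0, 0, 0, 6],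
  [0, 1, 0, 0, 2, 0, 0, 0, 0, 0, 0, 2, 0, 0, 1, 0],
  [0, 0, 1, 0, 0, 0, 0, 2, 2, 0, 0, 0, 0, 1, 0, 0],
  [0, 0, 0, 1, 0, 0, 1, 0, 0, 2, 0, 0, 2, 0, 0, 0],
  [1, 0, 0, 0, 0, 3, 0, 0, 0, 0, 0, 2, 0, 0, 6, 0],
  [0, 0, 1, 0, 0, 0, 0, 6, 0, 2, 0, 0, 3, 0, 0, 0],
  [1, 0, 0, 0, 0, 6, 0, 0, 0, 0, 0, 2, 0, 0, 3, 0],
  [0, 0, 0, 1, 0, 0, 6, 0, 2, 0, 0, 0, 0, 3, 0, 0],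
  [1, 0, 0, 0, 0, 1, 0, 0, 0, 0, 6, 0, 0, 0, 0, 3],
  [0, 0, 0, 1, 0, 0, 2, 0, 0, 1, 0, 0, 2, 0, 0, 0],
  [0, 0, 1, 0, 0, 0, 0, 3, 0, 1, 0, 0, 3, 0, 0, 0],
  [0, 0, 0, 1, 0, 0, 3, 0, 1, 0, 0, 0, 0, 3, 0, 0],
  [1, 0, 0, 0, 0, 2, 0, 0, 0, 0, 3, 0, 0, 0, 0, 3],
  [0, 1, 0, 0, 1, 0, 0, 0, 0, 0, 0, 6, 0, 0, 3, 0],
  [0, 0, 1, 0, 0, 0, 0, 3, 0, 2, 0, 0, 6, 0, 0, 0],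
  [0, 0, 1, 0, 0, 0, 0, 2, 6, 0, 0, 0, 0, 6, 0, 0],
  [0, 0, 0, 1, 0, 0, 3, 0, 2, 0, 0, 0, 0, 6, 0, 0],
  [1, 0, 0, 0, 0, 2, 0, 0, 0, 0, 6, 0, 0, 0, 0, 6],
  [0, 1, 0, 0, 2, 0, 0, 0, 0, 0, 0, 6, 0, 0, 6, 0],
  [0, 0, 0, 1, 0, 0, 1, 0, 0, 3, 0, 0, 6, 0, 0, 0],
  [0, 1, 0, 0, 1, 0, 0, 0, 0, 0, 0, 3, 0, 0, 6, 0],
  [0, 0, 1, 0, 0, 0, 0, 1, 3, 0, 0, 0, 0, 6, 0, 0],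
  [0, 1, 0, 0, 6, 0, 0, 0, 0, 0, 3, 0, 0, 0, 0, 2],
  [0, 0, 0, 1, 0, 0, 2, 0, 0, 2, 0, 0, 1, 0, 0, 0],
  [0, 0, 1, 0, 0, 0, 0, 2, 3, 0, 0, 0, 0, 3, 0, 0],
  [0, 1, 0, 0, 2, 0, 0, 0, 0, 0, 0, 3, 0, 0, 3, 0],
  [0, 0, 0, 1, 0, 0, 1, 0, 0, 6, 0, 0, 3, 0, 0, 0],
  [0, 0, 1, 0, 0, 0, 0, 1, 6, 0, 0, 0, 0, 3, 0, 0],
  [0, 1, 0, 0, 6, 0, 0, 0, 0, 0, 6, 0, 0, 0, 0, 1],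
  [0, 0, 0, 1, 0, 0, 2, 0, 0, 3, 0, 0, 3, 0, 0, 0],
  [0, 1, 0, 0, 3, 0, 0, 0, 0, 0, 3, 0, 0, 0, 0, 1],
  [1, 0, 0, 0, 0, 3, 0, 0, 0, 0, 0, 6, 0, 0, 2, 0],
  [0, 0, 0, 1, 0, 0, 2, 0, 0, 6, 0, 0, 6, 0, 0, 0],
  [0, 0, 1, 0, 0, 0, 0, 3, 0, 6, 0, 0, 2, 0, 0, 0],
  [0, 1, 0, 0, 3, 0, 0, 0, 0, 0, 6, 0, 0, 0, 0, 2],
  [1, 0, 0, 0, 0, 6, 0, 0, 0, 0, 0, 6, 0, 0, 1, 0],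
  [0, 0, 0, 1, 0, 0, 3, 0, 3, 0, 0, 0, 0, 1, 0, 0],
  [1, 0, 0, 0, 0, 3, 0, 0, 0, 0, 0, 3, 0, 0, 1, 0],
  [0, 0, 1, 0, 0, 0, 0, 6, 0, 3, 0, 0, 2, 0, 0, 0],
  [1, 0, 0, 0, 0, 6, 0, 0, 0, 0, 0, 3, 0, 0, 2, 0],
  [0, 0, 0, 1, 0, 0, 6, 0, 3, 0, 0, 0, 0, 2, 0, 0],
  [0, 0, 1, 0, 0, 0, 0, 3, 0, 3, 0, 0, 1, 0, 0, 0],
  [0, 0, 0, 1, 0, 0, 3, 0, 6, 0, 0, 0, 0, 2, 0, 0],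
  [0, 0, 1, 0, 0, 0, 0, 6, 0, 6, 0, 0, 1, 0, 0, 0],
  [0, 0, 0, 1, 0, 0, 6, 0, 6, 0, 0, 0, 0, 1, 0, 0]]

/-- Right products with the generators. -/
def nextQ : List (List ℕ) := [
  [1, 2, 3, 4, 5],
  [0, 6, 7, 8, 9],
  [6, 0, 10, 11, 12],
  [7, 10, 0, 13, 14],
  [8, 11, 13, 0, 15],
  [9, 16, 17, 18, 19],
  [2, 1, 20, 21, 16],
  [3, 20, 1, 22, 23],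
  [4, 21, 22, 1, 24],
  [5, 12, 25, 26, 27],
  [20, 3, 2, 28, 17],
  [21, 4, 28, 2, 29],
  [16, 9, 14, 30, 31],
  [22, 28, 4, 3, 30],
  [23, 25, 12, 29, 32],
  [24, 33, 18, 17, 34],
  [12, 5, 23, 35, 36],
  [25, 23, 5, 15, 37],
  [26, 35, 15, 5, 38],
  [27, 31, 39, 40, 41],
  [10, 7, 6, 42, 25],
  [11, 8, 42, 6, 33],
  [13, 42, 8, 7, 35],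
  [14, 17, 16, 33, 39],
  [15, 29, 26, 25, 43],
  [17, 14, 9, 24, 44],
  [18, 30, 24, 9, 45],
  [19, 36, 32, 46, 47],
  [42, 13, 11, 10, 18],
  [33, 24, 30, 14, 46],
  [35, 26, 29, 12, 48],
  [36, 19, 44, 43, 49],
  [39, 37, 27, 45, 50],
  [29, 15, 35, 23, 40],
  [43, 46, 51, 36, 52],
  [30, 18, 33, 16, 51],
  [31, 27, 37, 34, 53],
  [44, 32, 36, 51, 54],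
  [45, 48, 40, 39, 55],
  [32, 44, 19, 38, 56],
  [46, 43, 38, 19, 57],
  [47, 53, 58, 59, 1],
  [28, 22, 21, 20, 26],
  [34, 40, 48, 31, 60],
  [37, 39, 31, 48, 58],
  [38, 51, 46, 32, 61],
  [40, 34, 45, 27, 62],
  [41, 49, 54, 63, 0],
  [51, 38, 43, 44, 59],
  [53, 47, 56, 55, 6],
  [56, 58, 53, 52, 7],
  [48, 45, 34, 37, 63],
  [60, 57, 61, 50, 8],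
  [49, 41, 50, 61, 2],
  [58, 56, 47, 62, 20],
  [61, 63, 60, 49, 42],
  [50, 54, 49, 60, 3],
  [62, 52, 59, 58, 11],
  [54, 50, 41, 57, 10],
  [63, 61, 57, 41, 22],
  [52, 62, 55, 56, 4],
  [55, 59, 52, 53, 28],
  [57, 60, 63, 54, 21],
  [59, 55, 62, 47, 13]]

/-- Descent. -/
def parQ : List (ℕ × ℕ) := [(0, 0), (0, 0), (0, 1), (0, 2), (0, 3), (0, 4), (1, 1), (1, 2), (1, 3), (1, 4), (2, 2), (2, 3), (2, 4), (3, 3), (3, 4), (4, 4), (5, 1), (5, 2), (5, 3), (5, 4), (6, 2), (6, 3), (7, 3), (7, 4), (8, 4), (9, 2), (9, 3), (9, 4), (10, 3), (11, 4), (12, 3), (12, 4), (14, 4), (15, 1), (15, 4), (16, 3), (16, 4), (17, 4), (18, 4), (19, 2), (19, 3), (19, 4), (20, 3), (24, 4), (25,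 4), (26, 4), (27, 3), (27, 4), (30, 4), (31, 4), (32, 4), (34, 2), (34, 4), (36, 4), (37, 4), (38, 4), (39, 4), (40, 4), (41, 2), (41, 3), (43, 4), (45, 4), (46, 4), (47, 3)]

/-- Classes. -/
def clsQ : List ℕ := [0, 1, 1, 1, 1, 4, 1, 1, 1, 4, 1, 1, 4, 1, 4, 3, 4, 4, 3, 2, 1, 1, 1, 4, 3, 4, 3, 2, 1, 3, 3, 2, 1, 3, 3, 3, 2, 1, 3, 1, 3, 4, 1, 3, 1, 3, 3, 4, 3, 4, 4, 3, 3, 4, 4, 3, 4, 3, 4, 3, 3, 3, 3, 3]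

/-- Conjugators into the representatives. -/
def witQ : List (List ℕ) := [
  [1, 0, 0, 0, 0, 1, 0, 0, 0, 0, 1, 0, 0, 0, 0, 1],
  [2, 2, 2, 2, 1, 2, 2, 1, 2, 1, 2, 1, 1, 1, 2, 2],
  [2, 2, 1, 1, 2, 2, 2, 2, 2, 1, 2, 1, 2, 1, 1, 2],
  [0, 1, 0, 0, 0, 0, 1, 0, 1, 0, 0, 0, 0, 0, 0, 1],
  [0, 0, 1, 0, 1, 0, 0, 0, 0, 1, 0, 0, 0, 0, 0, 1],
  [0, 1, 0, 0, 1, 0, 0, 0, 0, 0, 0, 2, 0, 0, 2, 0],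
  [2, 2, 2, 2, 2, 1, 2, 1, 2, 2, 1, 1, 2, 1, 1, 2],
  [0, 0, 1, 0, 0, 1, 0, 0, 2, 0, 0, 0, 0, 0, 0, 1],
  [0, 0, 1, 0, 3, 0, 0, 0, 0, 6, 0, 0, 0, 0, 0, 1],
  [0, 6, 0, 0, 3, 0, 0, 0, 0, 0, 0, 2, 0, 0, 2, 0],
  [1, 2, 6, 6, 2, 2, 3, 6, 6, 3, 1, 1, 6, 6, 1, 2],
  [0, 1, 0, 0, 2, 0, 0, 0, 0, 0, 1, 0, 0, 0, 0, 1],
  [1, 0, 0, 0, 0, 1, 0, 0, 0, 0, 1, 0, 0, 0, 0, 1],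
  [1, 0, 0, 0, 0, 1, 0, 0, 0, 0, 1, 0, 0, 0, 0, 1],
  [0, 0, 2, 0, 0, 0, 0, 2, 2, 0, 0, 0, 0, 2, 0, 0],
  [0, 6, 0, 0, 2, 0, 0, 0, 0, 0, 3, 0, 0, 0, 0, 1],
  [3, 0, 0, 0, 0, 6, 0, 0, 0, 0, 1, 0, 0, 0, 0, 1],
  [0, 0, 0, 2, 0, 0, 6, 0, 6, 0, 0, 0, 0, 2, 0, 0],
  [0, 1, 0, 0, 1, 0, 0, 0, 0, 0, 0, 2, 0, 0, 2, 0],
  [0, 0, 8, 8, 0, 0, 5, 7, 8, 4, 0, 0, 7, 7, 0, 0],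
  [6, 3, 2, 2, 6, 6, 2, 1, 6, 3, 1, 1, 6, 6, 1, 2],
  [0, 0, 3, 0, 6, 0, 0, 0, 0, 1, 0, 0, 0, 0, 0, 1],
  [6, 0, 0, 0, 0, 0, 6, 0, 0, 1, 0, 0, 0, 0, 0, 1],
  [0, 0, 1, 0, 0, 0, 0, 2, 1, 0, 0, 0, 0, 2, 0, 0],
  [0, 6, 0, 0, 1, 0, 0, 0, 0, 0, 6, 0, 0, 0, 0, 1],
  [0, 0, 0, 2, 0, 0, 1, 0, 0, 1, 0, 0, 2, 0, 0, 0],
  [3, 0, 0, 0, 0, 6, 0, 0, 0, 0, 1, 0, 0, 0, 0, 1],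
  [0, 0, 8, 8, 0, 0, 5, 7, 5, 5, 0, 0, 8, 4, 0, 0],
  [3, 0, 0, 0, 0, 6, 0, 0, 0, 0, 1, 0, 0, 0, 0, 1],
  [0, 1, 0, 0, 3, 0, 0, 0, 0, 0, 3, 0, 0, 0, 0, 1],
  [1, 0, 0, 0, 0, 1, 0, 0, 0, 0, 1, 0, 0, 0, 0, 1],
  [7, 7, 0, 0, 4, 8, 0, 0, 0, 0, 4, 4, 0, 0, 7, 5],
  [0, 4, 0, 5, 7, 0, 8, 0, 6, 3, 1, 1, 6, 6, 1, 2],
  [0, 1, 0, 0, 6, 0, 0, 0, 0, 0, 6, 0, 0, 0, 0, 1],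
  [0, 0, 5, 4, 8, 4, 0, 0, 8, 8, 0, 0, 0, 0, 4, 5],
  [1, 0, 0, 0, 0, 2, 0, 0, 0, 0, 2, 0, 0, 0, 0, 1],
  [4, 8, 0, 0, 5, 5, 0, 0, 0, 0, 4, 4, 0, 0, 7, 5],
  [0, 4, 0, 5, 4, 0, 7, 0, 2, 1, 6, 6, 6, 6, 1, 2],
  [7, 5, 0, 0, 0, 0, 5, 4, 7, 7, 0, 0, 0, 0, 4, 5],
  [7, 0, 8, 0, 0, 4, 0, 5, 3, 6, 2, 2, 6, 6, 1, 2],
  [0, 0, 4, 7, 7, 5, 0, 0, 8, 8, 0, 0, 0, 0, 4, 5],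
  [0, 1, 0, 0, 2, 0, 0, 0, 0, 0, 1, 0, 0, 0, 0, 1],
  [1, 0, 0, 0, 0, 0, 2, 0, 0, 1, 0, 0, 0, 0, 0, 1],
  [0, 0, 5, 4, 5, 7, 0, 0, 7, 7, 0, 0, 0, 0, 4, 5],
  [0, 7, 0, 4, 7, 0, 8, 0, 1, 2, 3, 3, 6, 6, 1, 2],
  [8, 4, 0, 0, 0, 0, 5, 4, 4, 4, 0, 0, 0, 0, 4, 5],
  [0, 0, 4, 7, 8, 4, 0, 0, 7, 7, 0, 0, 0, 0, 4, 5],
  [0, 6, 0, 0, 6, 0, 0, 0, 0, 0, 1, 0, 0, 0, 0, 1],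
  [4, 8, 0, 0, 0, 0, 4, 7, 7, 7, 0, 0, 0, 0, 4, 5],
  [0, 1, 0, 0, 3, 0, 0, 0, 0, 0, 0, 3, 0, 0, 2, 0],
  [0, 0, 2, 0, 0, 0, 0, 2, 0, 2, 0, 0, 1, 0, 0, 0],
  [7, 5, 0, 0, 0, 0, 8, 5, 8, 8, 0, 0, 0, 0, 4, 5],
  [0, 1, 0, 0, 1, 0, 0, 0, 0, 0, 2, 0, 0, 0, 0, 1],
  [2, 0, 0, 0, 0, 1, 0, 0, 0, 0, 0, 2, 0, 0, 2, 0],
  [0, 0, 0, 2, 0, 0, 1, 0, 2, 0, 0, 0, 0, 2, 0, 0],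
  [3, 0, 0, 0, 0, 1, 0, 0, 0, 0, 6, 0, 0, 0, 0, 1],
  [0, 0, 3, 0, 0, 0, 0, 2, 6, 0, 0, 0, 0, 2, 0, 0],
  [0, 6, 0, 0, 6, 0, 0, 0, 0, 0, 1, 0, 0, 0, 0, 1],
  [0, 0, 0, 2, 0, 0, 2, 0, 1, 0, 0, 0, 0, 2, 0, 0],
  [1, 0, 0, 0, 0, 6, 0, 0, 0, 0, 3, 0, 0, 0, 0, 1],
  [0, 1, 0, 0, 2, 0, 0, 0, 0, 0, 1, 0, 0, 0, 0, 1],
  [6, 0, 0, 0, 0, 1, 0, 0, 0, 0, 3, 0, 0, 0, 0, 1],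
  [0, 6, 0, 0, 3, 0, 0, 0, 0, 0, 2, 0, 0, 0, 0, 1],
  [1, 0, 0, 0, 0, 3, 0, 0, 0, 0, 6, 0, 0, 0, 0, 1]]

/-- Characters with values signs. -/
def chars : List (List ℕ) := [
  [0, 0, 0, 0, 0, 0, 0, 0, 0, 0, 0, 0, 0, 0, 0, 0, 0, 0, 0, 0, 0, 0, 0, 0, 0, 0, 0, 0, 0, 0, 0, 0, 0, 0, 0, 0, 0, 0, 0, 0, 0, 0, 0, 0, 0, 0, 0, 0, 0, 0, 0, 0, 0, 0, 0, 0, 0, 0, 0, 0, 0, 0, 0, 0, 0, 0, 0, 0, 0, 0, 0, 0, 0, 0, 0, 0, 0, 0, 0, 0, 0, 0, 0, 0, 0, 0, 0, 0, 0, 0, 0, 0, 0, 0, 0, 0, 0, 0, 0, 0, 0, 0, 0, 0, 0, 0, 0, 0, 0, 0, 0, 0, 0, 0, 0, 0, 0, 0, 0, 0, 0, 0, 0, 0, 0, 0, 0, 0],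
  [0, 0, 0, 1, 0, 0, 1, 0, 0, 1, 1, 1, 0, 0, 1, 0, 0, 1, 1, 1, 0, 0, 1, 0, 1, 1, 1, 0, 1, 0, 0, 1, 0, 0, 1, 1, 1, 0, 0, 1, 1, 1, 0, 1, 0, 1, 0, 1, 1, 1, 0, 0, 1, 1, 1, 0, 1, 0, 0, 0, 1, 1, 0, 0, 0, 1, 0, 0, 1, 1, 1, 0, 0, 1, 1, 0, 1, 0, 1, 0, 0, 1, 1, 1, 0, 1, 0, 0, 0, 1, 0, 1, 1, 1, 1, 0, 1, 1, 0, 1, 0, 0, 0, 0, 1, 0, 0, 1, 1, 1, 0, 1, 0, 1, 0, 1, 0, 0, 1, 0, 1, 0, 1, 1, 0, 0, 0, 1],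
  [0, 0, 1, 0, 0, 1, 0, 1, 0, 1, 0, 1, 0, 1, 0, 1, 0, 1, 0, 1, 1, 0, 1, 0, 0, 1, 1, 0, 1, 0, 1, 0, 1, 0, 1, 0, 1, 1, 0, 0, 1, 1, 0, 1, 1, 1, 1, 0, 1, 0, 0, 1, 0, 0, 0, 1, 0, 1, 0, 1, 1, 0, 1, 0, 1, 0, 1, 0, 1, 0, 1, 1, 0, 0, 1, 0, 1, 1, 1, 0, 1, 0, 0, 0, 1, 0, 1, 0, 1, 0, 1, 1, 1, 1, 0, 0, 1, 1, 0, 0, 1, 0, 0, 1, 0, 1, 0, 1, 0, 1, 0, 1, 0, 1, 1, 0, 0, 1, 1, 0, 1, 0, 0, 0, 1, 0, 1, 0],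
  [0, 0, 1, 1, 0, 1, 1, 1, 0, 0, 1, 0, 0, 1, 1, 1, 0, 0, 1, 0, 1, 0, 0, 0, 1, 0, 0, 0, 0, 0, 1, 1, 1, 0, 0, 1, 0, 1, 0, 1, 0, 0, 0, 0, 1, 0, 1, 1, 0, 1, 0, 1, 1, 1, 1, 1, 1, 1, 0, 1, 0, 1, 1, 0, 1, 1, 1, 0, 0, 1, 0, 1, 0, 1, 0, 0, 0, 1, 0, 0, 1, 1, 1, 1, 1, 1, 1, 0, 1, 1, 1, 0, 0, 0, 1, 0, 0, 0, 0, 1, 1, 0, 0, 1, 1, 1, 0, 0, 1, 0, 0, 0, 0, 0, 1, 1, 0, 1, 0, 0, 0, 0, 1, 1, 1, 0, 1, 1],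
  [0, 1, 0, 0, 0, 1, 1, 1, 0, 0, 1, 0, 1, 0, 0, 0, 1, 1, 0, 1, 0, 1, 1, 1, 0, 1, 1, 1, 1, 0, 1, 1, 1, 0, 0, 1, 0, 1, 0, 1, 0, 0, 0, 0, 1, 0, 1, 1, 0, 1, 0, 1, 1, 1, 1, 1, 1, 1, 0, 1, 0, 1, 1, 1, 0, 0, 0, 1, 1, 0, 1, 0, 1, 0, 1, 1, 1, 0, 1, 1, 0, 0, 0, 0, 0, 0, 0, 1, 0, 0, 0, 1, 1, 1, 0, 1, 1, 1, 1, 0, 0, 1, 0, 1, 1, 1, 0, 0, 1, 0, 0, 0, 0, 0, 1, 1, 0, 1, 0, 0, 0, 0, 1, 0, 0, 1, 0, 0],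
  [0, 1, 0, 1, 0, 1, 0, 1, 0, 1, 0, 1, 1, 0, 1, 0, 1, 0, 1, 0, 0, 1, 0, 1, 1, 0, 0, 1, 0, 0, 1, 0, 1, 0, 1, 0, 1, 1, 0, 0, 1, 1, 0, 1, 1, 1, 1, 0, 1, 0, 0, 1, 0, 0, 0, 1, 0, 1, 0, 1, 1, 0, 1, 1, 0, 1, 0, 1, 0, 1, 0, 0, 1, 1, 0, 1, 0, 0, 0, 1, 0, 1, 1, 1, 0, 1, 0, 1, 0, 1, 0, 0, 0, 0, 1, 1, 0, 0, 1, 1, 0, 1, 0, 1, 0, 1, 0, 1, 0, 1, 0, 1, 0, 1, 1, 0, 0, 1, 1, 0, 1, 0, 0, 1, 0, 1, 0, 1],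
  [0, 1, 1, 0, 0, 0, 1, 0, 0, 1, 1, 1, 1, 1, 0, 1, 1, 0, 0, 0, 1, 1, 0, 1, 0, 0, 0, 1, 0, 0, 0, 1, 0, 0, 1, 1, 1, 0, 0, 1, 1, 1, 0, 1, 0, 1, 0, 1, 1, 1, 0, 0, 1, 1, 1, 0, 1, 0, 0, 0, 1, 1, 0, 1, 1, 0, 1, 1, 0, 0, 0, 1, 1, 0, 0, 1, 0, 1, 0, 1, 1, 0, 0, 0, 1, 0, 1, 1, 1, 0, 1, 0, 0, 0, 0, 1, 0, 0, 1, 0, 1, 1, 0, 0, 1, 0, 0, 1, 1, 1, 0, 1, 0, 1, 0, 1, 0, 0, 1, 0, 1, 0, 1, 0, 1, 1, 1, 0],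
  [0, 1, 1, 1, 0, 0, 0, 0, 0, 0, 0, 0, 1, 1, 1, 1, 1, 1, 1, 1, 1, 1, 1, 1, 1, 1, 1, 1, 1, 0, 0, 0, 0, 0, 0, 0, 0, 0, 0, 0, 0, 0, 0, 0, 0, 0, 0, 0, 0, 0, 0, 0, 0, 0, 0, 0, 0, 0, 0, 0, 0, 0, 0, 1, 1, 1, 1, 1, 1, 1, 1, 1, 1, 1, 1, 1, 1, 1, 1, 1, 1, 1, 1, 1, 1, 1, 1, 1, 1, 1, 1, 1, 1, 1, 1, 1, 1, 1, 1, 1, 1, 1, 0, 0, 0, 0, 0, 0, 0, 0, 0, 0, 0, 0, 0, 0, 0, 0, 0, 0, 0, 0, 0, 1, 1, 1, 1, 1]]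

/-- Generators of the normalizer. -/
def normGens : List (List ℕ) := [
  [3, 0, 0, 0, 0, 6, 0, 0, 0, 0, 1, 0, 0, 0, 0, 1],
  [0, 0, 1, 0, 1, 0, 0, 0, 0, 1, 0, 0, 0, 0, 0, 1],
  [0, 1, 0, 0, 2, 0, 0, 0, 0, 0, 1, 0, 0, 0, 0, 1],
  [2, 2, 2, 2, 2, 1, 2, 1, 2, 2, 1, 1, 2, 1, 1, 2]]

/-- An element of order three modulo the normal subgroup. -/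
def eA : List ℕ := [0, 0, 1, 0, 1, 0, 0, 0, 0, 1, 0, 0, 0, 0, 0, 1]

/-- Another. -/
def eB : List ℕ := [1, 2, 1, 2, 2, 2, 2, 2, 1, 1, 2, 2, 1, 2, 2, 1]

/-- An element of the torus. -/
def eT : List ℕ := [0, 4, 8, 0, 4, 0, 0, 4, 0, 8, 8, 0, 4, 0, 0, 8]

/-- An element outside the Borel subgroup. -/
def eW : List ℕ := [1, 6, 3, 1, 6, 1, 2, 6, 3, 2, 2, 6, 1, 6, 6, 2]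

/-- An involution modulo the normal subgroup. -/
def rep2 : List ℕ := [1, 0, 0, 0, 0, 1, 0, 0, 0, 0, 3, 0, 0, 0, 0, 6]

/-- An element of order four modulo the normal subgroup. -/
def rep4 : List ℕ := [0, 1, 0, 0, 6, 0, 0, 0, 0, 0, 1, 0, 0, 0, 0, 6]

/-- An element of order five. -/
def rep5 : List ℕ := [1, 1, 1, 1, 2, 1, 2, 1, 6, 6, 3, 3, 6, 3, 3, 6]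

/-- Right multiplication in the quotient. -/
def perm : List ℕ := [36, 39, 38, 37, 72, 75, 74, 73, 108, 111, 110, 109, 144, 147, 146, 145, 180, 183, 182, 181, 216, 219, 218, 217, 252, 255, 254, 253, 288, 291, 290, 289, 324, 327, 326, 325, 0, 3, 2, 1, 116, 119, 118, 117, 76, 79, 78, 77, 315, 314, 313, 312, 214, 213, 212, 215, 281, 280, 283, 282, 231, 230, 229, 228, 165, 164, 167, 166, 342, 341, 340, 343, 4, 7, 6, 5, 44, 47, 46, 45, 112, 115, 114, 113, 351, 350, 349, 348, 250, 249, 248, 251, 317, 316, 319, 318, 159, 158, 157, 156, 201, 200, 203, 202, 270, 269, 268, 271, 8, 11, 10, 9, 80, 83, 82, 81, 40, 43, 42, 41, 279, 278, 277, 276, 178, 177, 176, 179, 353, 352, 355,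 354, 195, 194, 193, 192, 237, 236, 239, 238, 306, 305, 304, 307, 12, 15, 14, 13, 224, 227, 226, 225, 184, 187, 186, 185, 99, 98, 97, 96, 322, 321, 320, 323, 65, 64, 67, 66, 339, 338, 337, 336, 273, 272, 275, 274, 126, 125, 124, 127, 16, 19, 18, 17, 152, 155, 154, 153, 220, 223, 222, 221, 135, 134, 133, 132, 358, 357, 356, 359, 101, 100, 103, 102, 267, 266, 265, 264, 309, 308, 311, 310, 54, 53, 52, 55, 20, 23, 22, 21, 188, 191, 190, 189, 148, 151, 150, 149, 63, 62, 61, 60, 286, 285, 284, 287, 137, 136, 139, 138, 303, 302, 301, 300, 345, 344, 347, 346, 90, 89, 88, 91, 24, 27, 26, 25, 332, 335, 334, 333, 292, 295, 294, 293, 207, 206, 205, 204, 106, 105, 104, 107, 173, 172,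 175, 174, 123, 122, 121, 120, 57, 56, 59, 58, 234, 233, 232, 235, 28, 31, 30, 29, 260, 263, 262, 261, 328, 331, 330, 329, 243, 242, 241, 240, 142, 141, 140, 143, 209, 208, 211, 210, 51, 50, 49, 48, 93, 92, 95, 94, 162, 161, 160, 163, 32, 35, 34, 33, 296, 299, 298, 297, 256, 259, 258, 257, 171, 170, 169, 168, 70, 69, 68, 71, 245, 244, 247, 246, 87, 86, 85, 84, 129, 128, 131, 130, 198, 197, 196, 199]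

/-- The classes of the terms, with conjugators. -/
def kinds : List (ℕ × List ℕ) := [
  (0, [1, 0, 0, 0, 0, 1, 0, 0, 0, 0, 1, 0, 0, 0, 0, 1]),
  (2, [1, 2, 1, 1, 2, 1, 1, 1, 3, 3, 3, 6, 3, 3, 6, 3]),
  (1, [1, 1, 2, 2, 2, 2, 2, 2, 6, 3, 6, 3, 6, 3, 3, 6]),
  (2, [1, 1, 2, 2, 2, 2, 2, 2, 6, 3, 6, 3, 6, 3, 3, 6]),
  (0, [1, 0, 0, 0, 0, 1, 0, 0, 0, 0, 1, 0, 0, 0, 0, 1]),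
  (2, [1, 3, 2, 3, 6, 2, 6, 1, 3, 1, 6, 1, 1, 3, 1, 6]),
  (1, [4, 5, 0, 0, 0, 0, 4, 5, 5, 4, 0, 0, 0, 0, 5, 4]),
  (2, [1, 1, 1, 1, 1, 1, 2, 2, 6, 3, 6, 3, 6, 3, 3, 6]),
  (0, [1, 0, 0, 0, 0, 1, 0, 0, 0, 0, 1, 0, 0, 0, 0, 1]),
  (2, [1, 6, 2, 6, 6, 1, 3, 1, 2, 3, 2, 6, 6, 1, 6, 2]),
  (1, [1, 2, 1, 2, 3, 3, 3, 3, 3, 3, 6, 6, 1, 2, 2, 1]),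
  (2, [4, 7, 0, 0, 7, 4, 0, 0, 0, 0, 7, 4, 0, 0, 4, 7]),
  (0, [1, 0, 0, 0, 0, 1, 0, 0, 0, 0, 1, 0, 0, 0, 0, 1]),
  (2, [1, 6, 1, 3, 6, 1, 3, 1, 1, 6, 2, 6, 6, 1, 6, 2]),
  (1, [1, 2, 6, 6, 3, 3, 1, 2, 2, 1, 6, 6, 3, 3, 2, 1]),
  (2, [4, 5, 0, 0, 0, 0, 4, 5, 5, 4, 0, 0, 0, 0, 5, 4]),
  (0, [1, 0, 0, 0, 0, 1, 0, 0, 0, 0, 1, 0, 0, 0, 0, 1]),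
  (2, [1, 2, 2, 2, 1, 2, 1, 1, 3, 3, 3, 6, 3, 3, 6, 3]),
  (1, [0, 0, 4, 5, 8, 7, 0, 0, 5, 4, 0, 0, 0, 0, 5, 4]),
  (2, [1, 2, 6, 6, 3, 3, 1, 2, 2, 1, 6, 6, 3, 3, 2, 1]),
  (0, [1, 0, 0, 0, 0, 1, 0, 0, 0, 0, 1, 0, 0, 0, 0, 1]),
  (2, [1, 1, 1, 2, 6, 3, 3, 3, 6, 3, 6, 6, 1, 1, 2, 1]),
  (1, [1, 1, 1, 1, 1, 1, 2, 2, 6, 3, 6, 3, 6, 3, 3, 6]),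
  (2, [1, 1, 2, 2, 6, 3, 6, 3, 1, 1, 1, 1, 6, 3, 3, 6]),
  (0, [1, 0, 0, 0, 0, 1, 0, 0, 0, 0, 1, 0, 0, 0, 0, 1]),
  (2, [0, 0, 4, 4, 7, 7, 0, 0, 4, 8, 0, 0, 0, 0, 7, 5]),
  (1, [1, 3, 2, 3, 6, 2, 6, 1, 3, 1, 6, 1, 1, 3, 1, 6]),
  (2, [1, 2, 1, 2, 3, 3, 3, 3, 3, 3, 6, 6, 1, 2, 2, 1]),
  (0, [1, 0, 0, 0, 0, 1, 0, 0, 0, 0, 1, 0, 0, 0, 0, 1]),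
  (2, [4, 5, 0, 0, 0, 0, 5, 8, 7, 8, 0, 0, 0, 0, 8, 5]),
  (1, [4, 7, 0, 0, 7, 4, 0, 0, 0, 0, 7, 4, 0, 0, 4, 7]),
  (2, [0, 0, 4, 5, 8, 7, 0, 0, 5, 4, 0, 0, 0, 0, 5, 4]),
  (0, [1, 0, 0, 0, 0, 1, 0, 0, 0, 0, 1, 0, 0, 0, 0, 1]),
  (2, [4, 4, 0, 0, 5, 7, 0, 0, 0, 0, 5, 5, 0, 0, 4, 8]),
  (1, [1, 1, 2, 2, 6, 3, 6, 3, 1, 1, 1, 1, 6, 3, 3, 6]),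
  (2, [1, 2, 1, 2, 3, 3, 6, 6, 6, 6, 6, 6, 1, 2, 2, 1]),
  (1, [1, 1, 1, 1, 2, 1, 2, 1, 6, 6, 3, 3, 6, 3, 3, 6]),
  (1, [4, 0, 7, 0, 8, 0, 7, 0, 0, 4, 0, 7, 0, 4, 0, 5]),
  (1, [1, 1, 1, 1, 1, 2, 2, 1, 6, 3, 6, 3, 3, 3, 6, 6]),
  (1, [1, 1, 1, 1, 2, 2, 1, 1, 1, 2, 1, 2, 1, 2, 2, 1]),
  (0, [1, 0, 0, 0, 0, 1, 0, 0, 0, 0, 1, 0, 0, 0, 0, 1]),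
  (3, [1, 2, 2, 2, 1, 1, 2, 1, 2, 2, 2, 1, 2, 1, 2, 2]),
  (2, [4, 0, 5, 0, 0, 7, 0, 8, 5, 0, 4, 0, 0, 8, 0, 7]),
  (4, [1, 1, 1, 2, 6, 3, 6, 6, 1, 2, 2, 2, 3, 3, 6, 3]),
  (0, [1, 0, 0, 0, 0, 1, 0, 0, 0, 0, 1, 0, 0, 0, 0, 1]),
  (3, [1, 0, 0, 0, 0, 0, 2, 0, 0, 1, 0, 0, 0, 0, 0, 1]),
  (2, [1, 1, 2, 2, 3, 6, 3, 6, 3, 3, 3, 3, 1, 2, 2, 1]),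
  (4, [1, 3, 6, 2, 6, 1, 1, 6, 6, 2, 2, 6, 2, 3, 6, 1]),
  (3, [1, 3, 2, 3, 2, 3, 2, 6, 1, 6, 2, 6, 2, 6, 2, 3]),
  (2, [1, 1, 2, 2, 1, 2, 1, 2, 2, 2, 2, 2, 1, 2, 2, 1]),
  (4, [0, 0, 1, 0, 1, 0, 0, 0, 0, 1, 0, 0, 0, 0, 0, 1]),
  (0, [1, 0, 0, 0, 0, 1, 0, 0, 0, 0, 1, 0, 0, 0, 0, 1]),
  (2, [4, 0, 0, 5, 0, 8, 7, 0, 0, 7, 8, 0, 7, 0, 0, 8]),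
  (4, [1, 6, 3, 2, 2, 6, 3, 1, 2, 3, 3, 2, 1, 3, 3, 1]),
  (0, [1, 0, 0, 0, 0, 1, 0, 0, 0, 0, 1, 0, 0, 0, 0, 1]),
  (3, [1, 3, 1, 3, 3, 1, 6, 2, 6, 1, 3, 2, 1, 6, 1, 6]),
  (4, [1, 2, 2, 2, 2, 2, 1, 2, 3, 3, 3, 6, 3, 6, 3, 3]),
  (0, [1, 0, 0, 0, 0, 1, 0, 0, 0, 0, 1, 0, 0, 0, 0, 1]),
  (3, [1, 6, 1, 6, 1, 3, 2, 6, 6, 2, 3, 1, 3, 2, 3, 2]),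
  (2, [0, 4, 7, 0, 0, 4, 5, 0, 7, 0, 0, 4, 7, 0, 0, 8]),
  (3, [1, 1, 1, 1, 1, 2, 2, 1, 6, 3, 6, 3, 3, 3, 6, 6]),
  (2, [1, 1, 1, 2, 1, 2, 2, 2, 2, 1, 2, 2, 1, 1, 2, 1]),
  (4, [1, 0, 0, 0, 0, 2, 0, 0, 0, 0, 6, 0, 0, 0, 0, 6]),
  (0, [1, 0, 0, 0, 0, 1, 0, 0, 0, 0, 1, 0, 0, 0, 0, 1]),
  (4, [1, 3, 1, 3, 2, 3, 2, 3, 6, 2, 3, 1, 6, 1, 3, 2]),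
  (0, [1, 0, 0, 0, 0, 1, 0, 0, 0, 0, 1, 0, 0, 0, 0, 1]),
  (3, [1, 1, 1, 2, 2, 1, 1, 1, 3, 6, 3, 3, 6, 6, 3, 6]),
  (2, [4, 5, 0, 0, 8, 5, 0, 0, 0, 0, 4, 7, 0, 0, 4, 5]),
  (2, [1, 6, 3, 1, 6, 1, 1, 3, 2, 6, 3, 2, 3, 1, 1, 6]),
  (4, [0, 0, 1, 0, 0, 2, 0, 0, 3, 0, 0, 0, 0, 0, 0, 6]),
  (0, [1, 0, 0, 0, 0, 1, 0, 0, 0, 0, 1, 0, 0, 0, 0, 1]),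
  (3, [1, 2, 1, 1, 6, 3, 3, 3, 1, 1, 1, 2, 3, 3, 6, 3])]

/-- Two conjugates with an involution as product. -/
def five : List (List ℕ × List ℕ) := [
  ([1, 1, 2, 2, 3, 6, 3, 6, 3, 3, 3, 3, 1, 2, 2, 1], [1, 2, 1, 1, 1, 1, 1, 2, 3, 6, 6, 6, 3, 3, 6, 3]),
  ([1, 3, 1, 3, 1, 6, 1, 6, 1, 6, 2, 3, 1, 3, 2, 6], [1, 1, 1, 2, 6, 3, 6, 6, 3, 6, 6, 6, 1, 1, 2, 1])]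

end CfsgLib.Known.E8U43
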