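import Cfsg.Agent.Lib.Known.E8U43.Model

/-!
# The elements of the group given by codes
-/

set_option autoImplicit false
set_option maxRecDepth 20000

namespace CfsgLib.Known.E8U43

open Cfsg Matrix

variable {F : Type*} [Field F]

/-- The matrices of the special unitary group. -/
def IsSU (M : Matrix (Fin 4) (Fin 4) F) : Prop :=
  M.det = 1 ∧ ∀ u v, hermForm 4 F 3 (M *ᵥ u) (M *ᵥ v) = hermForm 4 F 3 u v

theorem isSU_val (x : SU 4 F 3) : IsSU x.1.1 := ⟨x.1.2, fun u v => x.2 u v⟩

open scoped Classical in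
/-- The element of a code, one for a code outside the group. -/
noncomputable def el (i : F) (m : List ℕ) : SU 4 F 3 :=
  if h : IsSU (toM i m) then ⟨⟨toM i m, h.1⟩, h.2⟩ else 1

theorem el_val {i : F} {m : List ℕ} (h : IsSU (toM i m)) : (el i m).1.1 = toM i m := by
  simp only [el, dif_pos h]

theorem SU_ext {x y : SU 4 F 3} (h : x.1.1 = y.1.1) : x = y := Subtype.ext (Subtype.ext h)

variable [CharP F 3] {i : F} (hi : i ^ 2 = -1)
include hi

theorem isSU_mm {m n : List ℕ} (hm : IsSU (toM i m)) (hn : IsSU (toM i n)) : IsSU (toM i (mm m n)) := by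
  rw [toM_mm hi, show toM i m * toM i n = (el i m * el i n).1.1 by
    show _ = (el i m).1.1 * (el i n).1.1
    rw [el_val hm, el_val hn]]
  exact isSU_val _

theorem el_mm {m n : List ℕ} (hm : IsSU (toM i m)) (hn : IsSU (toM i n)) : el i (mm m n) = el i m * el i n :=
  SU_ext (by
    show _ = (el i m).1.1 * (el i n).1.1
    rw [el_val (isSU_mm hi hm hn), el_val hm, el_val hn, toM_mm hi])

omit hi in
theorem isSU_one : IsSU (toM i oneL) := by
  rw [toM_one]; exact ⟨Matrix.det_one, fun u v => by rw [Matrix.one_mulVec, Matrix.one_mulVec]⟩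

omit hi in
theorem el_one : el i oneL = 1 := SU_ext (by rw [el_val isSU_one, toM_one]; rfl)

theorem el_pow {m : List ℕ} (hm : IsSU (toM i m)) : ∀ k, IsSU (toM i (powL m k)) ∧ el i (powL m k) = el i m ^ k
  | 0 => ⟨isSU_one, by rw [powL, el_one, pow_zero]⟩
  | k + 1 => by
    obtain ⟨h1, h2⟩ := el_pow hm k
    exact ⟨isSU_mm hi h1 hm, by rw [powL, el_mm hi h1 hm, h2, pow_succ]⟩

theorem eqv_spec {m n : List ℕ} (hm : IsSU (toM i m)) (hn : IsSU (toM i n)) (h : eqv m n = true) :
    ∃ z ∈ Subgroup.center (SU 4 F 3), el i n = z * el i m := by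
  simp only [eqv, List.any_eq_true, beq_iff_eq] at h
  obtain ⟨c, -, hc⟩ := h
  refine ⟨el i n * (el i m)⁻¹, ?_, by rw [inv_mul_cancel_right]⟩
  have hscal : (el i n * (el i m)⁻¹).1.1 = enc i c • (1 : Matrix (Fin 4) (Fin 4) F) := by
    show (el i n).1.1 * ((el i m)⁻¹ : SU 4 F 3).1.1 = _
    rw [el_val hn, ← hc, toM_sm hi, Matrix.smul_mul, ← el_val hm]
    show enc i c • ((el i m * (el i m)⁻¹ : SU 4 F 3)).1.1 = _
    rw [mul_inv_cancel]
    rfl
  refine Subgroup.mem_center_iff.2 fun x => SU_ext ?_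
  show x.1.1 * (el i n * (el i m)⁻¹).1.1 = (el i n * (el i m)⁻¹).1.1 * x.1.1
  rw [hscal, Matrix.mul_smul, Matrix.smul_mul, mul_one, one_mul]

theorem toM_inj {m n : List ℕ} (hm : ∀ r s, ent m r s < 9) (hn : ∀ r s, ent n r s < 9) (h : toM i m = toM i n)
    (r s : Fin 4) : ent m r s = ent n r s :=
  enc_inj hi (hm r s) (hn r s) (congrFun (congrFun h r) s)

theorem not_mem_center {m n : List ℕ} (hm : IsSU (toM i m)) (hn : IsSU (toM i n))
    (h : ((List.finRange 4).all fun r => (List.finRange 4).all fun s =>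
      ent (mm m n) r s == ent (mm n m) r s) = false) : el i m ∉ Subgroup.center (SU 4 F 3) := fun hc => by
  have e := Subgroup.mem_center_iff.1 hc (el i n)
  rw [← el_mm hi hm hn, ← el_mm hi hn hm] at e
  have e' := congrArg (fun x : SU 4 F 3 => x.1.1) e
  simp only [el_val (isSU_mm hi hm hn), el_val (isSU_mm hi hn hm)] at e'
  have hlt : ∀ a b r s, ent (mm a b) r s < 9 := fun a b r s => by rw [mm, ent_ofEnt]; exact addN_lt _ _
  have := toM_inj hi (hlt n m) (hlt m n) e'
  simp [this] at h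

end CfsgLib.Known.E8U43
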