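import Cfsg.Agent.Lib.Known.E8U43.Checks

/-!
# The checks in the normalizer of the normal subgroup
-/

set_option autoImplicit false
set_option maxRecDepth 100000
set_option maxHeartbeats 1000000

namespace CfsgLib.Known.E8U43

/-- An element of the unipotent subgroup. -/
def elU (a : ℕ) : List ℕ := mm (powL eA (a / 3)) (powL eB (a % 3))

/-- An element of the Borel subgroup. -/
def elB (a : ℕ) : List ℕ := mm (elU (a / 4)) (powL eT (a % 4))

/-- An element of the quotient. -/
def elL (a : ℕ) : List ℕ := if a < 36 then elB a else mm (mm (elU ((a - 36) / 36)) eW) (elB ((a - 36) % 36))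

/-- A term of the idempotent. -/
def term (a : ℕ) : List ℕ := if a < 36 then elB a else mm (elB (a - 36)) eW

/-- The elements that are used on the fixed space. -/
def usedM : List (List ℕ) :=
  [eA, eB, eT, eW, rep2, rep4, rep5] ++ kinds.map Prod.snd ++ five.map Prod.fst ++ five.map Prod.snd

theorem used_good : usedM.all goodM = true ∧
    (usedM.all fun X => genE.all fun e => elsE.any fun e' => eqv (mm e X) (mm X e')) = true := by
  decide +kernel

theorem gens_eq : genE = gensE ∧ gensA.take 4 = genE ∧ gensQ.take 4 = genE ∧ gensA.length = 5 ∧ gensQ.length = 5 ∧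
    eqvE (gensA.getD 4 oneL) rep2 = true ∧ eqvE (gensQ.getD 4 oneL) rep4 = true ∧
    eqvE (powL rep4 2) rep2 = true ∧ eqvE (powL rep2 2) oneL = true := by
  decide +kernel

theorem unip_ok : eqvE (powL eA 3) oneL = true ∧ eqvE (powL eB 3) oneL = true ∧
    eqvE (mm eA eB) (mm eB eA) = true := by
  decide +kernel

theorem perm_ok : perm.length = 360 ∧ perm.all (fun a => decide (a < 360)) = true ∧ perm.Nodup ∧
    ((List.range 360).all fun a => eqvE (mm (elL a) eW) (elL (perm.getD a 0))) = true := by
  decide +kernel

/-- The class of a term. -/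
def kindOf (a : ℕ) : ℕ := (kinds.getD a (0, [])).1

/-- The conjugator of a term. -/
def witOf (a : ℕ) : List ℕ := (kinds.getD a (0, [])).2

theorem kinds_ok : kinds.length = 72 ∧ ((List.range 72).all fun a => decide (kindOf a < 5) &&
    (if kindOf a = 0 then eqvE (powL (term a) 3) oneL
    else eqvE (mm (term a) (witOf a)) (mm (witOf a)
      (if kindOf a = 1 then rep2 else if kindOf a = 2 then rep4 else if kindOf a = 3 then rep5 else powL rep5 3)))) = true := by
  decide +kernel

theorem five_ok : five.length = 2 ∧ (five.all fun p => eqvE (mm p.1 p.2) (mm p.2 rep5)) = true ∧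
    eqvE (mm (five.getD 0 ([], [])).1 (five.getD 1 ([], [])).1) rep2 = true ∧
    eqvE (powL rep5 5) oneL = true := by
  decide +kernel

/-- The coefficient of the trace at the identity and at an element of order five. -/
def coefKill (five? : Bool) : ℕ :=
  ((List.range 72).map fun a =>
    if (if five? then decide (3 ≤ kindOf a) else kindOf a == 0) then (if a < 36 then 1 else 2) else 0).sum % 3

theorem coefKill_eq : coefKill false * 8 % 3 = 2 ∧ coefKill true = 2 := by decide +kernel

end CfsgLib.Known.E8U43
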