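import Cfsg.Agent.Lib.Known.E8U43.Sums
import Cfsg.Agent.Lib.Known.E8U43.QuotChecks

/-!
# The fixed space of the normal subgroup of order sixteen
-/

set_option autoImplicit false
set_option maxRecDepth 20000

namespace CfsgLib.Known.E8U43

open Cfsg Module
open CfsgLib.Perm.AltSection (eig mem_eig)
open CfsgLib.Known.E8Sub (sgnSum fdim fixAll mem_fixAll)

variable [Fact (Nat.Prime 3)]
variable {F : Type*} [Field F] [CharP F 3] {i : F}
variable {V : Type*} [AddCommGroup V] [Module (ZMod 3) V] [FiniteDimensional (ZMod 3) V]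
variable (ρ : PSU 4 F 3 →* End (ZMod 3) V)

attribute [local irreducible] powL mm

/-- The fixed space. -/
noncomputable def cE (i : F) : Submodule (ZMod 3) V := fixAll (ρ.comp (tblE.sub i).subtype)

/-- Being an element of the group that keeps the fixed space. -/
def Stab (i : F) (m : List ℕ) : Prop := IsSU (toM i m) ∧ ∀ v ∈ cE ρ i, ρ (pj i m) v ∈ cE ρ i

open scoped Classical in
/-- The action on the fixed space. -/
noncomputable def act (i : F) (m : List ℕ) : End (ZMod 3) ↥(cE ρ i) :=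
  if h : Stab ρ i m then (ρ (pj i m)).restrict h.2 else 1

variable {ρ}

omit [CharP F 3] [FiniteDimensional (ZMod 3) V] in
theorem act_apply {m : List ℕ} (h : Stab ρ i m) (v : ↥(cE ρ i)) : (act ρ i m v : V) = ρ (pj i m) v := by
  rw [act, dif_pos h]; rfl

/-- Fixed by the generators of a table, fixed by its subgroup. -/
theorem mem_fix_sub {T : Tbl} {v : V} :
    v ∈ fixAll (ρ.comp (T.sub i).subtype) ↔ ∀ j < T.gens.length, ρ (pj i (T.gens.getD j oneL)) v = v := by
  rw [mem_fixAll]
  constructor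
  · intro h j hj
    exact h ⟨_, Subgroup.subset_closure ⟨j, hj, rfl⟩⟩
  · intro h g
    show ρ (g : PSU 4 F 3) v = v
    obtain ⟨x, hx⟩ := g
    show ρ x v = v
    induction hx using Subgroup.closure_induction with
    | mem x hx => obtain ⟨j, hj, rfl⟩ := hx; exact h j hj
    | one => rw [map_one, End.one_apply]
    | mul a b _ _ ha hb => rw [map_mul, End.mul_apply, hb, ha]
    | inv a _ ha =>
      conv_lhs => rw [← ha]
      rw [← End.mul_apply, ← map_mul, inv_mul_cancel, map_one, End.one_apply]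

variable (hi : i ^ 2 = -1)
include hi

theorem stab_one : Stab ρ i oneL := ⟨isSU_one, fun v hv => by rwa [pj_one, map_one, End.one_apply]⟩

theorem stab_mm {m n : List ℕ} (hm : Stab ρ i m) (hn : Stab ρ i n) :
    Stab ρ i (mm m n) ∧ act ρ i (mm m n) = act ρ i m * act ρ i n := by
  have e : ∀ v, ρ (pj i (mm m n)) v = ρ (pj i m) (ρ (pj i n) v) := fun v => by
    rw [pj_mm hi hm.1 hn.1, map_mul, End.mul_apply]
  have h : Stab ρ i (mm m n) := ⟨isSU_mm hi hm.1 hn.1, fun v hv => by rw [e]; exact hm.2 _ (hn.2 v hv)⟩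
  refine ⟨h, LinearMap.ext fun v => Subtype.ext ?_⟩
  rw [act_apply h, e, End.mul_apply, act_apply hm, act_apply hn]

theorem stab_pow {m : List ℕ} (hm : Stab ρ i m) : ∀ k, Stab ρ i (powL m k) ∧ act ρ i (powL m k) = act ρ i m ^ k
  | 0 => by
    rw [powL]
    refine ⟨stab_one hi, LinearMap.ext fun v => Subtype.ext ?_⟩
    rw [act_apply (stab_one hi), pj_one, map_one, End.one_apply, pow_zero, End.one_apply]
  | k + 1 => by
    obtain ⟨h1, h2⟩ := stab_pow hm k
    obtain ⟨h3, h4⟩ := stab_mm hi h1 hm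
    rw [powL, pow_succ, ← h2]
    exact ⟨h3, h4⟩

theorem act_one : act ρ i oneL = 1 := LinearMap.ext fun v => Subtype.ext (by
  rw [act_apply (stab_one hi), pj_one, map_one, End.one_apply, End.one_apply])

omit hi in
theorem mem_elsE {e : List ℕ} (he : e ∈ elsE) : ∃ a < tblE.els.length, tblE.el' a = e := by
  obtain ⟨a, ha, rfl⟩ := List.getElem_of_mem he
  exact ⟨a, ha, List.getD_eq_getElem _ _ ha⟩

variable [Fintype F]

theorem fix_el {e : List ℕ} (he : e ∈ elsE) {v : V} (hv : v ∈ cE ρ i) : ρ (pj i e) v = v := by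
  obtain ⟨a, ha, rfl⟩ := mem_elsE he
  exact mem_fixAll.1 hv ⟨_, (tblE.mem_sub hi tblE_ok.1).1 a ha⟩

theorem su_elsE {e : List ℕ} (he : e ∈ elsE) : IsSU (toM i e) :=
  goodM_su hi (List.all_eq_true.1 (Tbl.ok_spec tblE_ok.1).1.2.1 e he)

/-- Equal modulo the normal subgroup, equal on the fixed space. -/
theorem act_eqvE {m n : List ℕ} (hm : Stab ρ i m) (hn : Stab ρ i n) (h : eqvE m n = true) :
    act ρ i m = act ρ i n := by
  simp only [eqvE, List.any_eq_true] at h
  obtain ⟨e, he, hee⟩ := h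
  refine LinearMap.ext fun v => Subtype.ext ?_
  rw [act_apply hm, act_apply hn, ← pj_eqv hi (isSU_mm hi hm.1 (su_elsE hi he)) hn.1 hee,
    pj_mm hi hm.1 (su_elsE hi he), map_mul, End.mul_apply, fix_el hi he v.2]

theorem stab_used {X : List ℕ} (hX : X ∈ usedM) : Stab ρ i X := by
  obtain ⟨hg, hn⟩ := used_good
  have hsu : IsSU (toM i X) := goodM_su hi (List.all_eq_true.1 hg X hX)
  refine ⟨hsu, fun v hv => mem_fix_sub.2 fun j hj => ?_⟩
  have hgen : tblE.gens.getD j oneL ∈ genE := by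
    rw [List.getD_eq_getElem _ _ hj, gens_eq.1]
    exact List.getElem_mem hj
  have h' := List.all_eq_true.1 (List.all_eq_true.1 hn X hX) _ hgen
  rw [List.any_eq_true] at h'
  obtain ⟨e', he', hee⟩ := h'
  have hsg : IsSU (toM i (tblE.gens.getD j oneL)) := su_getD hi (Tbl.ok_spec tblE_ok.1).1.1 j
  rw [← End.mul_apply, ← map_mul, ← pj_mm hi hsg hsu,
    pj_eqv hi (isSU_mm hi hsg hsu) (isSU_mm hi hsu (su_elsE hi he')) hee, pj_mm hi hsu (su_elsE hi he'), map_mul,
    End.mul_apply, fix_el hi he' hv]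

theorem act_surjective {X : List ℕ} (hX : Stab ρ i X) : Function.Surjective (act ρ i X) := by
  refine LinearMap.surjective_of_injective fun a b e => Subtype.ext ?_
  have e' := congrArg (fun w : ↥(cE ρ i) => ρ ((pj i X)⁻¹) (w : V)) e
  simp only [act_apply hX, ← End.mul_apply, ← map_mul, inv_mul_cancel, map_one, End.one_apply] at e'
  exact e'

theorem trace_act_conj {m n k : List ℕ} (hm : Stab ρ i m) (hn : Stab ρ i n) (hk : Stab ρ i k)
    (h : eqvE (mm m k) (mm k n) = true) :
    LinearMap.trace (ZMod 3) _ (act ρ i m) = LinearMap.trace (ZMod 3) _ (act ρ i n) := by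
  have e := act_eqvE hi (stab_mm hi hm hk).1 (stab_mm hi hk hn).1 h
  rw [(stab_mm hi hm hk).2, (stab_mm hi hk hn).2] at e
  have hb : Function.Bijective (act ρ i k) :=
    ⟨LinearMap.injective_iff_surjective.2 (act_surjective hi hk), act_surjective hi hk⟩
  have hconj : (LinearEquiv.ofBijective (act ρ i k) hb).conj (act ρ i n) = act ρ i m := LinearMap.ext fun v => by
    obtain ⟨w, rfl⟩ := hb.2 v
    rw [LinearEquiv.conj_apply_apply, LinearEquiv.ofBijective_apply,
      LinearEquiv.ofBijective_symm_apply_apply, ← End.mul_apply, ← End.mul_apply, e]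
  rw [← hconj, LinearMap.trace_conj']

variable (hρ : TwoFacts ρ)
include hρ

theorem finrank_fix_tbl {T : Tbl} (h : T.ok = true) {k : ℕ} (hk : T.els.length = 2 ^ k) {w : List (ℕ × ℕ)}
    (hw : (List.range 5).map (wgt T (fun _ => 0)) = w) :
    (T.els.length : ℤ) * (finrank (ZMod 3) ↥(fixAll (ρ.comp (T.sub i).subtype)) : ℤ) =
      ((w.getD 0 (0, 0)).1 - (w.getD 0 (0, 0)).2 : ℤ) * 248 + ((w.getD 1 (0, 0)).1 - (w.getD 1 (0, 0)).2 : ℤ) * (-8)
      + ((w.getD 2 (0, 0)).1 - (w.getD 2 (0, 0)).2 : ℤ) * 8 := by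
  have e := sum_tbl hρ hi h hk
  obtain ⟨h1, h2, h3, h4⟩ := scl_eq hρ hi
  have hget : ∀ j < 5, wgt T (fun _ => 0) j = w.getD j (0, 0) := fun j hj => by
    rw [← hw, List.getD_eq_getElem _ _ (by simpa using hj), List.getElem_map, List.getElem_range]
  rw [← e, Finset.sum_congr rfl fun j hj => by rw [hget j (Finset.mem_range.1 hj)]]
  simp only [Finset.sum_range_succ, Finset.sum_range_zero, scl, h1, h2, h3, h4]
  norm_num

theorem finrank_cE : finrank (ZMod 3) ↥(cE ρ i) = 8 := by
  have hw : (List.range 5).map (wgt tblE (fun _ => 0)) = [(1, 0), (15, 0), (0, 0), (0, 0), (0, 0)] := by decide +kernel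
  have e := finrank_fix_tbl hi hρ tblE_ok.1 (k := 4) (by rw [tblE_ok.2]; rfl) hw
  rw [tblE_ok.2] at e
  simp only [List.getD_cons_zero, List.getD_cons_succ] at e
  rw [cE]
  omega

/-- The fixed points on the fixed space of an element extending the normal subgroup. -/
theorem fdim_act_ext {T : Tbl} {r : List ℕ} (h : T.ok = true) (hlen : T.gens.length = 5) (htake : T.gens.take 4 = genE)
    (hr : r ∈ usedM) (he : eqvE (T.gens.getD 4 oneL) r = true) :
    fdim (act ρ i r) = finrank (ZMod 3) ↥(fixAll (ρ.comp (T.sub i).subtype)) := by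
  obtain ⟨hg, -, -⟩ := (Tbl.ok_spec h).1
  simp only [eqvE, List.any_eq_true] at he
  obtain ⟨x, hx, hee⟩ := he
  have hsame : ∀ v ∈ cE ρ i, ρ (pj i (T.gens.getD 4 oneL)) v = ρ (pj i r) v := fun v hv => by
    rw [← pj_eqv hi (isSU_mm hi (su_getD hi hg 4) (su_elsE hi hx)) (stab_used (ρ := ρ) hi hr).1 hee,
      pj_mm hi (su_getD hi hg 4) (su_elsE hi hx), map_mul, End.mul_apply, fix_el hi hx hv]
  have hfirst : ∀ j < 4, T.gens.getD j oneL = tblE.gens.getD j oneL := fun j hj => by
    rw [show tblE.gens = T.gens.take 4 by rw [htake, gens_eq.1]; rfl, List.getD_eq_getElem _ _ (by omega),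
      List.getD_eq_getElem _ _ (by simp; omega), List.getElem_take]
  have hlenE : tblE.gens.length = 4 := by
    show gensE.length = 4
    rw [← gens_eq.1, ← htake, List.length_take]; omega
  have hle : fixAll (ρ.comp (T.sub i).subtype) ≤ cE ρ i := fun v hv => mem_fix_sub.2 fun j hj => by
    rw [← hfirst j (by omega)]
    exact mem_fix_sub.1 hv j (by omega)
  have e : eig (act ρ i r) 1 = (fixAll (ρ.comp (T.sub i).subtype)).comap (cE ρ i).subtype := by
    ext v
    simp only [Submodule.mem_comap, Submodule.subtype_apply, mem_eig, one_smul]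
    rw [mem_fix_sub, Subtype.ext_iff, act_apply (stab_used hi hr)]
    constructor
    · intro h' j hj
      rcases Nat.lt_or_ge j 4 with h4 | h4
      · rw [hfirst j h4]; exact mem_fix_sub.1 v.2 j (by omega)
      · rw [show j = 4 by omega, hsame _ v.2]; exact h'
    · intro h'
      rw [← hsame _ v.2]; exact h' 4 (by omega)
  rw [fdim, e, CfsgLib.Known.E8Sub.finrank_comap_subtype, inf_eq_right.2 hle]

theorem fdim_rep2 : fdim (act ρ i rep2) = 4 := by
  have hw : (List.range 5).map (wgt tblA (fun _ => 0)) = [(1, 0), (19, 0), (4, 0), (8, 0), (0, 0)] := by decide +kernel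
  have e := finrank_fix_tbl hi hρ tblA_ok.1 (k := 5) (by rw [tblA_ok.2]; rfl) hw
  rw [tblA_ok.2, ← fdim_act_ext hi hρ tblA_ok.1 (r := rep2) gens_eq.2.2.2.1 gens_eq.2.1 (by simp [usedM])
    gens_eq.2.2.2.2.2.1] at e
  simp only [List.getD_cons_zero, List.getD_cons_succ] at e
  omega

theorem fdim_rep4 : fdim (act ρ i rep4) = 2 := by
  have hw : (List.range 5).map (wgt tblQ (fun _ => 0)) = [(1, 0), (19, 0), (4, 0), (24, 0), (16, 0)] := by decide +kernel
  have e := finrank_fix_tbl hi hρ tblQ_ok.1 (k := 6) (by rw [tblQ_ok.2]; rfl) hw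
  rw [tblQ_ok.2, ← fdim_act_ext hi hρ tblQ_ok.1 (r := rep4) gens_eq.2.2.2.2.1 gens_eq.2.2.1 (by simp [usedM])
    gens_eq.2.2.2.2.2.2.1] at e
  simp only [List.getD_cons_zero, List.getD_cons_succ] at e
  omega

end CfsgLib.Known.E8U43
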