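import Cfsg.Agent.Lib.Known.E8Sub.FixSum

/-!
# Operators over the field with three elements
-/

set_option autoImplicit false

namespace CfsgLib.Known.E8U43

open Module
open CfsgLib.Perm.AltSection (eig mem_eig)
open CfsgLib.Known.E8Sub (fdim)

theorem two_mul_two : (2 : ZMod 3) * 2 = 1 := by decide

theorem five_mul_two : (2 : ZMod 3) * 5 = 1 := by decide

theorem arith_five : ∀ f < 9, f % 3 = 2 → 3 ^ 8 % 5 = 3 ^ f % 5 → f = 8 := by decide

variable [Fact (Nat.Prime 3)] {C : Type*} [AddCommGroup C] [Module (ZMod 3) C] [FiniteDimensional (ZMod 3) C]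

theorem trace_cube (t : End (ZMod 3) C) :
    LinearMap.trace (ZMod 3) C (t ^ 3) = LinearMap.trace (ZMod 3) C t := by
  obtain ⟨b⟩ : Nonempty (Basis (Fin (finrank (ZMod 3) C)) (ZMod 3) C) := ⟨finBasis (ZMod 3) C⟩
  rw [LinearMap.trace_eq_matrix_trace _ b, LinearMap.trace_eq_matrix_trace _ b, ← LinearMap.toMatrix_pow,
    ZMod.trace_pow_card, ZMod.pow_card]

theorem trace_of_cube_eq_one {t : End (ZMod 3) C} (h : t ^ 3 = 1) :
    LinearMap.trace (ZMod 3) C t = (finrank (ZMod 3) C : ZMod 3) := by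
  have h3 : ∀ x : End (ZMod 3) C, 3 • x = 0 := fun x => by
    rw [← Nat.cast_smul_eq_nsmul (ZMod 3), show ((3 : ℕ) : ZMod 3) = 0 from ZMod.natCast_self 3, zero_smul]
  have h0 : IsNilpotent (t - 1) := ⟨3, by
    rw [show (t - 1) ^ 3 = t ^ 3 - 1 - 3 • t ^ 2 + 3 • t by noncomm_ring, h, h3, h3, sub_self, sub_zero, add_zero]⟩
  have e := (LinearMap.isNilpotent_trace_of_isNilpotent h0).eq_zero
  rw [map_sub, LinearMap.trace_one, sub_eq_zero] at e
  exact e

/-- The trace of an involution. -/
theorem trace_two {t : End (ZMod 3) C} (h : t ^ 2 = 1) :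
    LinearMap.trace (ZMod 3) C t = 2 * (fdim t : ZMod 3) - (finrank (ZMod 3) C : ZMod 3) := by
  have hp : LinearMap.IsProj (eig t 1) ((2 : ZMod 3) • (1 + t)) := by
    refine ⟨fun x => mem_eig.2 ?_, fun x hx => ?_⟩
    · rw [one_smul, LinearMap.smul_apply, map_smul, LinearMap.add_apply, map_add, End.one_apply,
        ← End.mul_apply, ← pow_two, h, End.one_apply, add_comm]
    · rw [mem_eig, one_smul] at hx
      rw [LinearMap.smul_apply, LinearMap.add_apply, End.one_apply, hx, ← two_smul (ZMod 3) x, smul_smul, two_mul_two,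
        one_smul]
  have e := hp.trace
  rw [map_smul, map_add, LinearMap.trace_one, smul_eq_mul] at e
  rw [fdim, ← e]
  linear_combination (-(finrank (ZMod 3) C : ZMod 3) - LinearMap.trace (ZMod 3) C t) * two_mul_two

/-- The trace of an element of order four. -/
theorem trace_four {t : End (ZMod 3) C} (h : t ^ 4 = 1) :
    2 * LinearMap.trace (ZMod 3) C t =
      (fdim t : ZMod 3) - (finrank (ZMod 3) C : ZMod 3) - LinearMap.trace (ZMod 3) C (t ^ 2) := by
  have hp : LinearMap.IsProj (eig t 1) (1 + t + t ^ 2 + t ^ 3) := by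
    refine ⟨fun x => mem_eig.2 ?_, fun x hx => ?_⟩
    · rw [one_smul, ← End.mul_apply]
      congr 1
      rw [mul_add, mul_add, mul_add, mul_one, ← pow_two, ← pow_succ', ← pow_succ', h]
      abel
    · rw [mem_eig, one_smul] at hx
      simp only [LinearMap.add_apply, End.one_apply, pow_succ, pow_zero, one_mul, End.mul_apply, hx]
      rw [← two_smul (ZMod 3) x, add_assoc, ← two_smul (ZMod 3) x, ← add_smul,
        show (2 : ZMod 3) + 2 = 2 * 2 by ring, two_mul_two, one_smul]
  have e := hp.trace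
  rw [map_add, map_add, map_add, LinearMap.trace_one, trace_cube] at e
  rw [fdim]
  linear_combination e

/-- The fixed space of an element of order five, by the trace. -/
theorem fdim_five {t : End (ZMod 3) C} (h : t ^ 5 = 1) (h4 : LinearMap.trace (ZMod 3) C (t ^ 4) = LinearMap.trace (ZMod 3) C (t ^ 2)) :
    (fdim t : ZMod 3) = 2 * ((finrank (ZMod 3) C : ZMod 3) + 2 * LinearMap.trace (ZMod 3) C t +
      2 * LinearMap.trace (ZMod 3) C (t ^ 2)) := by
  have hp : LinearMap.IsProj (eig t 1) ((2 : ZMod 3) • (1 + t + t ^ 2 + t ^ 3 + t ^ 4)) := by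
    refine ⟨fun x => mem_eig.2 ?_, fun x hx => ?_⟩
    · rw [one_smul, LinearMap.smul_apply, map_smul]
      congr 1
      rw [← End.mul_apply]
      congr 1
      rw [mul_add, mul_add, mul_add, mul_add, mul_one, ← pow_two, ← pow_succ', ← pow_succ', ← pow_succ', h]
      abel
    · rw [mem_eig, one_smul] at hx
      simp only [LinearMap.smul_apply, LinearMap.add_apply, End.one_apply, pow_succ, pow_zero, one_mul,
        End.mul_apply, hx]
      have e5 : x + x + x + x + x = (5 : ZMod 3) • x := by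
        rw [show (5 : ZMod 3) = 1 + 1 + 1 + 1 + 1 by norm_num]
        simp only [add_smul, one_smul]
      rw [e5, smul_smul, five_mul_two, one_smul]
  have e := hp.trace
  rw [map_smul, map_add, map_add, map_add, map_add, LinearMap.trace_one, trace_cube, h4, smul_eq_mul] at e
  rw [fdim, ← e]
  ring

/-- The fixed space of an element of order five is everything if its dimension is two modulo three. -/
theorem eq_one_of_five {t : End (ZMod 3) C} (h : t ^ 5 = 1) (hd : finrank (ZMod 3) C = 8) (hf : fdim t % 3 = 2) :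
    t = 1 := by
  haveI : Fact (Nat.Prime 5) := ⟨by norm_num⟩
  haveI : Finite C := Module.finite_of_finite (ZMod 3)
  obtain ⟨π, hπ⟩ : ∃ π : Equiv.Perm C, ∀ v, π v = t v :=
    ⟨⟨t, (t ^ 4 : End (ZMod 3) C), fun v => by rw [← End.mul_apply, ← pow_succ, h, End.one_apply],
      fun v => by rw [← End.mul_apply, ← pow_succ', h, End.one_apply]⟩, fun _ => rfl⟩
  have hk : ∀ k v, (π ^ k) v = (t ^ k) v := by
    intro k
    induction k with
    | zero => intro v; simp
    | succ k ih => intro v; rw [pow_succ', Equiv.Perm.mul_apply, ih, hπ, pow_succ', End.mul_apply]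
  have h5 : π ^ 5 = 1 := Equiv.ext fun v => by rw [hk, h, End.one_apply, Equiv.Perm.one_apply]
  have hp : IsPGroup 5 (Subgroup.zpowers π) := by
    rintro ⟨z, k, rfl⟩
    refine ⟨1, Subtype.ext ?_⟩
    show (π ^ k) ^ (5 ^ 1) = 1
    rw [pow_one, ← zpow_natCast, ← zpow_mul, mul_comm, zpow_mul, zpow_natCast, h5, one_zpow]
  have hmod := hp.card_modEq_card_fixedPoints (α := C)
  have e : MulAction.fixedPoints (Subgroup.zpowers π) C = (eig t 1 : Set C) := by
    ext v
    simp only [MulAction.mem_fixedPoints, SetLike.mem_coe, mem_eig, one_smul]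
    constructor
    · intro hv
      exact (hπ v).symm.trans (hv ⟨π, Subgroup.mem_zpowers π⟩)
    · intro hv m
      obtain ⟨m, hm⟩ := m
      show m v = v
      exact (Subgroup.zpowers_le (H := MulAction.stabilizer (Equiv.Perm C) v)).2 (by
        show π v = v
        rw [hπ, hv]) hm
  rw [e, SetLike.coe_sort_coe, Module.natCard_eq_pow_finrank (K := ZMod 3) (V := C),
    Module.natCard_eq_pow_finrank (K := ZMod 3) (V := ↥(eig t 1)), Nat.card_zmod, hd] at hmod
  have hle : fdim t ≤ 8 := hd ▸ Submodule.finrank_le _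
  have h8 := arith_five (fdim t) (by omega) hf hmod
  have htop : eig t 1 = ⊤ := Submodule.eq_top_of_finrank_eq (h8.trans hd.symm)
  refine LinearMap.ext fun v => ?_
  have := mem_eig.1 (htop ▸ Submodule.mem_top : v ∈ eig t 1)
  rwa [one_smul] at this

omit [FiniteDimensional (ZMod 3) C] in
/-- The monomials in two commuting unipotent operators. -/
theorem nine_independent {N M : End (ZMod 3) C} (hc : Commute N M) (hN : N ^ 3 = 0)
    (hM : M ^ 3 = 0) {y : C} (hy : (N ^ 2 * M ^ 2) y ≠ 0) :
    LinearIndependent (ZMod 3) fun p : Fin 3 × Fin 3 => (N ^ (p.1 : ℕ) * M ^ (p.2 : ℕ)) y := by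
  rw [Fintype.linearIndependent_iff]
  intro c hsum
  have hz : ∀ n m k, 3 ≤ n + k → (N ^ k * M ^ m * N ^ n) = 0 := fun n m k h => by
    rw [mul_assoc, ((hc.symm.pow_left m).pow_right n).eq, ← mul_assoc, ← pow_add,
      show k + n = 3 + (k + n - 3) by omega, pow_add, hN, zero_mul, zero_mul]
  have hterm : ∀ i j i' j', (N ^ i * M ^ j) * (N ^ i' * M ^ j') = N ^ (i + i') * M ^ (j + j') := fun i j i' j' => by
    rw [mul_assoc, ← mul_assoc (M ^ j), ((hc.symm.pow_left j).pow_right i').eq, mul_assoc, ← pow_add, ← mul_assoc,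
      ← pow_add]
  suffices h : ∀ n, ∀ p : Fin 3 × Fin 3, (p.1 : ℕ) * 3 + (p.2 : ℕ) = n → c p = 0 from fun p => h _ p rfl
  intro n
  induction n using Nat.strong_induction_on with
  | _ n ih =>
    intro p hp
    have e := congrArg (N ^ (2 - (p.1 : ℕ)) * M ^ (2 - (p.2 : ℕ))) hsum
    rw [map_sum, map_zero, Finset.sum_eq_single p] at e
    · rw [map_smul, ← End.mul_apply, hterm, show 2 - (p.1 : ℕ) + p.1 = 2 by omega,
        show 2 - (p.2 : ℕ) + p.2 = 2 by omega] at e
      exact (smul_eq_zero.1 e).resolve_right hy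
    · intro q _ hqp
      rw [map_smul, ← End.mul_apply, hterm]
      rcases Nat.lt_or_ge (q.1 : ℕ) ((p.1 : ℕ) + 1) with h1 | h1
      · rcases Nat.lt_or_ge (q.2 : ℕ) ((p.2 : ℕ) + 1) with h2 | h2
        · rw [ih _ (by
            have hne : ¬ ((q.1 : ℕ) = p.1 ∧ (q.2 : ℕ) = p.2) := fun h => hqp (Prod.ext (Fin.ext h.1) (Fin.ext h.2))
            omega) q rfl, zero_smul]
        · rw [show M ^ (2 - (p.2 : ℕ) + q.2) = 0 by
            rw [show 2 - (p.2 : ℕ) + q.2 = 3 + (q.2 - p.2 - 1) by omega, pow_add, hM, zero_mul], mul_zero,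
            LinearMap.zero_apply, smul_zero]
      · rw [show N ^ (2 - (p.1 : ℕ) + q.1) = 0 by
          rw [show 2 - (p.1 : ℕ) + q.1 = 3 + (q.1 - p.1 - 1) by omega, pow_add, hN, zero_mul], zero_mul,
          LinearMap.zero_apply, smul_zero]
    · exact fun h => absurd (Finset.mem_univ p) h

end CfsgLib.Known.E8U43
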