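import Cfsg.Agent.Lib.Known.E8U43.Fixed
import Cfsg.Agent.Lib.Known.E8U43.Linear

/-!
# The quotient of the normalizer acts trivially on the fixed space

The Steinberg idempotent of the quotient is too large for a space of dimension eight; its trace
determines that of an element of order five.
-/

set_option autoImplicit false
set_option maxRecDepth 20000

namespace CfsgLib.Known.E8U43

open Cfsg Module
open CfsgLib.Perm.AltSection (eig mem_eig)
open CfsgLib.Known.E8Sub (fdim)

theorem sum_div_mod {R : Type*} [Semiring R] (f g : ℕ → R) (n : ℕ) (hn : 0 < n) :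
    ∀ m, ∑ a ∈ Finset.range (m * n), f (a / n) * g (a % n) =
      (∑ a ∈ Finset.range m, f a) * ∑ b ∈ Finset.range n, g b
  | 0 => by simp
  | m + 1 => by
    rw [Nat.succ_mul, Finset.sum_range_add, sum_div_mod f g n hn m, Finset.sum_range_succ, add_mul,
      Finset.mul_sum (a := f m)]
    congr 1
    refine Finset.sum_congr rfl fun x hx => ?_
    rw [Finset.mem_range] at hx
    rw [Nat.add_comm (m * n) x, Nat.add_mul_div_right _ _ hn, Nat.div_eq_of_lt hx, Nat.zero_add,
      Nat.add_mul_mod_self_right, Nat.mod_eq_of_lt hx]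

/-- The value of the trace at a term, given that at an element of order five. -/
def termVal (u : ZMod 3) (a : ℕ) : ZMod 3 :=
  if kindOf a = 0 then 2 else if kindOf a = 1 then 0 else if kindOf a = 2 then 0 else u

theorem cast_facts : (2 : ZMod 3) * ((4 : ℕ) : ZMod 3) - ((8 : ℕ) : ZMod 3) = 0 ∧
    (∀ x : ZMod 3, 2 * x = ((2 : ℕ) : ZMod 3) - ((8 : ℕ) : ZMod 3) - 0 → x = 0) ∧ ((8 : ℕ) : ZMod 3) = 2 ∧
    ((2 : ZMod 3) * (((8 : ℕ) : ZMod 3) + 2 * 2 + 2 * 2)).val = 2 := by
  decide +kernel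

theorem termVal_eq : ∀ u : ZMod 3,
    ∑ a ∈ Finset.range 36, termVal u a - ∑ a ∈ Finset.range 36, termVal u (36 + a) = 0 → u = 2 := by
  decide +kernel

variable [Fact (Nat.Prime 3)]
variable {F : Type*} [Field F] [CharP F 3] {i : F}
variable {V : Type*} [AddCommGroup V] [Module (ZMod 3) V] [FiniteDimensional (ZMod 3) V]
variable {ρ : PSU 4 F 3 →* End (ZMod 3) V}

attribute [local irreducible] powL mm

theorem used_kind {a : ℕ} (ha : a < 72) : witOf a ∈ usedM := by
  have h : witOf a ∈ kinds.map Prod.snd := by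
    rw [witOf, List.getD_eq_getElem _ _ (kinds_ok.1 ▸ ha)]
    exact List.mem_map_of_mem (List.getElem_mem _)
  simp only [usedM, List.mem_append]
  exact Or.inl (Or.inl (Or.inr h))

theorem used_five {j : ℕ} (hj : j < 2) :
    (five.getD j ([], [])).1 ∈ usedM ∧ (five.getD j ([], [])).2 ∈ usedM := by
  have h : five.getD j ([], []) ∈ five := by
    rw [List.getD_eq_getElem _ _ (five_ok.1 ▸ hj)]
    exact List.getElem_mem _
  simp only [usedM, List.mem_append]
  exact ⟨Or.inl (Or.inr (List.mem_map_of_mem h)), Or.inr (List.mem_map_of_mem h)⟩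

variable [Fintype F] (hi : i ^ 2 = -1)
include hi

theorem stab_elU (a : ℕ) : Stab ρ i (elU a) ∧ act ρ i (elU a) = act ρ i eA ^ (a / 3) * act ρ i eB ^ (a % 3) := by
  obtain ⟨h1, e1⟩ := stab_pow (ρ := ρ) hi (stab_used hi (X := eA) (by simp [usedM])) (a / 3)
  obtain ⟨h2, e2⟩ := stab_pow (ρ := ρ) hi (stab_used hi (X := eB) (by simp [usedM])) (a % 3)
  rw [elU, ← e1, ← e2]
  exact stab_mm hi h1 h2

theorem stab_elB (a : ℕ) : Stab ρ i (elB a) := by
  rw [elB]
  exact (stab_mm hi (stab_elU hi _).1 (stab_pow hi (stab_used hi (X := eT) (by simp [usedM])) _).1).1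

theorem stab_term (a : ℕ) : Stab ρ i (term a) := by
  rw [term]
  split_ifs
  · exact stab_elB hi a
  · exact (stab_mm hi (stab_elB hi _) (stab_used hi (X := eW) (by simp [usedM]))).1

theorem stab_elL (a : ℕ) : Stab ρ i (elL a) := by
  rw [elL]
  split_ifs
  · exact stab_elB hi a
  · exact (stab_mm hi (stab_mm hi (stab_elU hi _).1 (stab_used hi (X := eW) (by simp [usedM]))).1 (stab_elB hi _)).1

/-- The idempotent sees no more than the vectors fixed by the reflection. -/
theorem idem_eq_zero (hd : finrank (ZMod 3) ↥(cE ρ i) = 8) :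
    (∑ a ∈ Finset.range 36, act ρ i (elB a)) * (1 - act ρ i eW) = 0 := by
  obtain ⟨A, hA⟩ : ∃ A, A = act ρ i eA := ⟨_, rfl⟩
  obtain ⟨B, hB⟩ : ∃ B, B = act ρ i eB := ⟨_, rfl⟩
  obtain ⟨W, hW⟩ : ∃ W, W = act ρ i eW := ⟨_, rfl⟩
  obtain ⟨S, hS⟩ : ∃ S, S = ∑ a ∈ Finset.range 36, act ρ i (elB a) := ⟨_, rfl⟩
  rw [← hS, ← hW]
  have sA : Stab ρ i eA := stab_used hi (by simp [usedM])
  have sB : Stab ρ i eB := stab_used hi (by simp [usedM])
  have sW : Stab ρ i eW := stab_used hi (by simp [usedM])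
  obtain ⟨u1, u2, u3⟩ := unip_ok
  have hA3 : A ^ 3 = 1 := by
    rw [hA, ← (stab_pow hi sA 3).2, act_eqvE hi (stab_pow hi sA 3).1 (stab_one hi) u1, act_one hi]
  have hB3 : B ^ 3 = 1 := by
    rw [hB, ← (stab_pow hi sB 3).2, act_eqvE hi (stab_pow hi sB 3).1 (stab_one hi) u2, act_one hi]
  have hAB : A * B = B * A := by
    rw [hA, hB, ← (stab_mm hi sA sB).2, ← (stab_mm hi sB sA).2,
      act_eqvE hi (stab_mm hi sA sB).1 (stab_mm hi sB sA).1 u3]
  have h3 : ∀ x : End (ZMod 3) ↥(cE ρ i), 3 • x = 0 := fun x => by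
    rw [← Nat.cast_smul_eq_nsmul (ZMod 3), show ((3 : ℕ) : ZMod 3) = 0 from ZMod.natCast_self 3, zero_smul]
  have hN : ∀ x : End (ZMod 3) ↥(cE ρ i), x ^ 3 = 1 → (x - 1) ^ 3 = 0 := fun x hx => by
    rw [show (x - 1) ^ 3 = x ^ 3 - 1 - 3 • x ^ 2 + 3 • x by noncomm_ring, hx, h3, h3, sub_self, sub_zero, add_zero]
  have hsq : ∀ x : End (ZMod 3) ↥(cE ρ i), ∑ k ∈ Finset.range 3, x ^ k = (x - 1) ^ 2 := fun x => by
    rw [Finset.sum_range_succ, Finset.sum_range_succ, Finset.sum_range_one, pow_zero, pow_one,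
      show (x - 1) ^ 2 = 1 + x + x ^ 2 - 3 • x by noncomm_ring, h3, sub_zero]
  have hU : ∑ a ∈ Finset.range 9, act ρ i (elU a) = (A - 1) ^ 2 * (B - 1) ^ 2 := by
    rw [Finset.sum_congr rfl fun a _ => (stab_elU hi a).2, ← hA, ← hB, ← hsq, ← hsq,
      ← sum_div_mod _ _ 3 (by norm_num) 3]
  have hL : ∑ a ∈ Finset.range 360, act ρ i (elL a) = S + (A - 1) ^ 2 * (B - 1) ^ 2 * W * S := by
    rw [show (360 : ℕ) = 36 + 9 * 36 from rfl, Finset.sum_range_add]
    congr 1
    · rw [hS]
      refine Finset.sum_congr rfl fun a ha => ?_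
      rw [elL, if_pos (Finset.mem_range.1 ha)]
    · rw [← hU, Finset.sum_mul, hS, ← sum_div_mod _ _ 36 (by norm_num) 9]
      refine Finset.sum_congr rfl fun a _ => ?_
      rw [elL, if_neg (by omega), Nat.add_sub_cancel_left, (stab_mm hi
        (stab_mm hi (stab_elU hi _).1 sW).1 (stab_elB hi _)).2, (stab_mm hi (stab_elU hi _).1 sW).2, hW]
  have hinv : (∑ a ∈ Finset.range 360, act ρ i (elL a)) * W = ∑ a ∈ Finset.range 360, act ρ i (elL a) := by
    obtain ⟨p1, p2, p3, p4⟩ := perm_ok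
    simp only [List.all_eq_true, decide_eq_true_eq, List.mem_range] at p2 p4
    have hlt : ∀ a : Fin 360, perm.getD (a : ℕ) 0 < 360 := fun a => by
      rw [List.getD_eq_getElem _ _ (p1.symm ▸ a.2)]
      exact p2 _ (List.getElem_mem _)
    obtain ⟨π, hπ⟩ : ∃ π : Fin 360 → Fin 360, ∀ a, (π a : ℕ) = perm.getD (a : ℕ) 0 :=
      ⟨fun a => ⟨_, hlt a⟩, fun _ => rfl⟩
    have hbij : Function.Bijective π := Finite.injective_iff_bijective.1 fun a c e => by
      have e' := congrArg Fin.val e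
      rw [hπ, hπ, List.getD_eq_getElem _ _ (p1.symm ▸ a.2), List.getD_eq_getElem _ _ (p1.symm ▸ c.2)] at e'
      exact Fin.ext (p3.getElem_inj_iff.1 e')
    rw [Finset.sum_range, Finset.sum_mul, ← hbij.sum_comp fun a : Fin 360 => act ρ i (elL (a : ℕ))]
    refine Finset.sum_congr rfl fun a _ => ?_
    rw [hπ, hW, ← (stab_mm hi (stab_elL hi _) sW).2,
      act_eqvE hi (stab_mm hi (stab_elL hi _) sW).1 (stab_elL hi _) (p4 _ a.2)]
  rw [hL] at hinv
  have hkey : (A - 1) ^ 2 * (B - 1) ^ 2 * (W * (S * (1 - W))) = -(S * (1 - W)) := by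
    rw [eq_neg_iff_add_eq_zero, ← sub_eq_zero.2 hinv.symm]
    noncomm_ring
  by_contra hne
  obtain ⟨v, hv⟩ : ∃ v, (S * (1 - W)) v ≠ 0 := by
    by_contra h
    push Not at h
    exact hne (LinearMap.ext h)
  have hy : (((A - 1) ^ 2 * (B - 1) ^ 2 : End (ZMod 3) ↥(cE ρ i))) ((W * (S * (1 - W))) v) ≠ 0 := by
    rw [← End.mul_apply, hkey, LinearMap.neg_apply, neg_ne_zero]
    exact hv
  have hind := nine_independent (((Commute.sub_left (Commute.sub_right hAB (Commute.one_right _))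
    (Commute.one_left _)))) (hN A hA3) (hN B hB3) hy
  have := hind.fintype_card_le_finrank
  rw [hd] at this
  simp at this

variable (hρ : TwoFacts ρ)
include hρ

theorem trace_rep2 : LinearMap.trace (ZMod 3) _ (act ρ i rep2) = 0 := by
  have s2 : Stab ρ i rep2 := stab_used hi (by simp [usedM])
  have h : act ρ i rep2 ^ 2 = 1 := by
    rw [← (stab_pow hi s2 2).2, act_eqvE hi (stab_pow hi s2 2).1 (stab_one hi) gens_eq.2.2.2.2.2.2.2.2, act_one hi]
  rw [trace_two h, fdim_rep2 hi hρ, finrank_cE hi hρ]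
  exact cast_facts.1

theorem trace_rep4 : LinearMap.trace (ZMod 3) _ (act ρ i rep4) = 0 := by
  have s2 : Stab ρ i rep2 := stab_used hi (by simp [usedM])
  have s4 : Stab ρ i rep4 := stab_used hi (by simp [usedM])
  have e : act ρ i rep4 ^ 2 = act ρ i rep2 := by
    rw [← (stab_pow hi s4 2).2, act_eqvE hi (stab_pow hi s4 2).1 s2 gens_eq.2.2.2.2.2.2.2.1]
  have h : act ρ i rep4 ^ 4 = 1 := by
    rw [show 4 = 2 * 2 from rfl, pow_mul, e, ← (stab_pow hi s2 2).2,
      act_eqvE hi (stab_pow hi s2 2).1 (stab_one hi) gens_eq.2.2.2.2.2.2.2.2, act_one hi]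
  have e4 := trace_four h
  rw [e, trace_rep2 hi hρ, fdim_rep4 hi hρ, finrank_cE hi hρ] at e4
  exact cast_facts.2.1 _ e4

theorem trace_rep5 : LinearMap.trace (ZMod 3) _ (act ρ i rep5) = 2 := by
  have hd := finrank_cE hi hρ
  have s5 : Stab ρ i rep5 := stab_used hi (by simp [usedM])
  have sW : Stab ρ i eW := stab_used hi (by simp [usedM])
  obtain ⟨u, hu⟩ : ∃ u, u = LinearMap.trace (ZMod 3) _ (act ρ i rep5) := ⟨_, rfl⟩
  have hterm : ∀ a < 72, LinearMap.trace (ZMod 3) _ (act ρ i (term a)) = termVal u a := by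
    intro a ha
    have hk := kinds_ok.2
    simp only [List.all_eq_true, List.mem_range, Bool.and_eq_true, decide_eq_true_eq] at hk
    obtain ⟨h5, hc⟩ := hk a ha
    have st : Stab ρ i (term a) := stab_term hi a
    have sk : Stab ρ i (witOf a) := stab_used hi (used_kind ha)
    rw [termVal]
    split_ifs at hc ⊢ with h0 h1 h2 h3
    · rw [trace_of_cube_eq_one (t := act ρ i (term a)) (by
        rw [← (stab_pow hi st 3).2, act_eqvE hi (stab_pow hi st 3).1 (stab_one hi) hc, act_one hi]), hd]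
      exact cast_facts.2.2.1
    · rw [trace_act_conj hi st (stab_used hi (X := rep2) (by simp [usedM])) sk hc, trace_rep2 hi hρ]
    · rw [trace_act_conj hi st (stab_used hi (X := rep4) (by simp [usedM])) sk hc, trace_rep4 hi hρ]
    · rw [trace_act_conj hi st s5 sk hc, hu]
    · rw [trace_act_conj hi st (stab_pow hi s5 3).1 sk hc, (stab_pow hi s5 3).2, trace_cube, hu]
  have e := congrArg (LinearMap.trace (ZMod 3) _) (idem_eq_zero (ρ := ρ) hi hd)
  rw [mul_sub, mul_one, Finset.sum_mul, map_sub, map_sum, map_sum, map_zero,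
    Finset.sum_congr rfl fun a ha => show LinearMap.trace (ZMod 3) _ (act ρ i (elB a)) = termVal u a by
      rw [Finset.mem_range] at ha
      rw [← hterm a (by omega), term, if_pos ha],
    Finset.sum_congr rfl fun a ha => show LinearMap.trace (ZMod 3) _ (act ρ i (elB a) * act ρ i eW) =
        termVal u (36 + a) by
      rw [Finset.mem_range] at ha
      rw [← hterm (36 + a) (by omega), term, if_neg (by omega), Nat.add_sub_cancel_left,
        (stab_mm hi (stab_elB hi a) sW).2]] at e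
  rw [← hu]
  exact termVal_eq u e

/-- No representation has the facts. -/
theorem false_of_facts : False := by
  have hd := finrank_cE hi hρ
  have s5 : Stab ρ i rep5 := stab_used hi (by simp [usedM])
  obtain ⟨t, ht⟩ : ∃ t, t = act ρ i rep5 := ⟨_, rfl⟩
  have hu : LinearMap.trace (ZMod 3) _ t = 2 := ht ▸ trace_rep5 hi hρ
  have h5 : t ^ 5 = 1 := by
    rw [ht, ← (stab_pow hi s5 5).2, act_eqvE hi (stab_pow hi s5 5).1 (stab_one hi) five_ok.2.2.2, act_one hi]
  have h2 : LinearMap.trace (ZMod 3) _ (t ^ 2) = 2 := by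
    rw [← trace_cube, ← pow_mul, show 2 * 3 = 5 + 1 from rfl, pow_add, h5, one_mul, pow_one, hu]
  have h4 : LinearMap.trace (ZMod 3) _ (t ^ 4) = LinearMap.trace (ZMod 3) _ (t ^ 2) := by
    rw [← trace_cube (t ^ 4), ← pow_mul, show 4 * 3 = 5 * 2 + 2 from rfl, pow_add, pow_mul, h5, one_pow, one_mul]
  have hf := fdim_five h5 h4
  rw [hd, hu, h2] at hf
  have hf' : fdim t % 3 = 2 := by
    have := congrArg ZMod.val hf
    rw [ZMod.val_natCast] at this
    rw [this]
    exact cast_facts.2.2.2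
  have h1 : t = 1 := eq_one_of_five h5 hd hf'
  have hp : ∀ j < 2, act ρ i (five.getD j ([], [])).1 = 1 := by
    intro j hj
    obtain ⟨m1, m2⟩ := used_five hj
    have sx := stab_used (ρ := ρ) hi m1
    have sk := stab_used (ρ := ρ) hi m2
    have hc : eqvE (mm (five.getD j ([], [])).1 (five.getD j ([], [])).2)
        (mm (five.getD j ([], [])).2 rep5) = true := by
      refine List.all_eq_true.1 five_ok.2.1 _ ?_
      rw [List.getD_eq_getElem _ _ (five_ok.1 ▸ hj)]
      exact List.getElem_mem _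
    have e := act_eqvE hi (stab_mm hi sx sk).1 (stab_mm hi sk s5).1 hc
    rw [(stab_mm hi sx sk).2, (stab_mm hi sk s5).2, ← ht, h1, mul_one] at e
    refine LinearMap.ext fun v => ?_
    obtain ⟨w, rfl⟩ := act_surjective hi sk v
    rw [← End.mul_apply, e, End.one_apply]
  have sx0 := stab_used (ρ := ρ) hi (used_five (j := 0) (by norm_num)).1
  have sx1 := stab_used (ρ := ρ) hi (used_five (j := 1) (by norm_num)).1
  have e := act_eqvE hi (stab_mm hi sx0 sx1).1 (stab_used (ρ := ρ) hi (X := rep2) (by simp [usedM])) five_ok.2.2.1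
  rw [(stab_mm hi sx0 sx1).2, hp 0 (by norm_num), hp 1 (by norm_num), one_mul] at e
  have := fdim_rep2 hi hρ
  rw [← e, fdim_one, hd] at this
  omega

end CfsgLib.Known.E8U43
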