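import Cfsg.Agent.Lib.Known.E8U43.Kill
import Cfsg.Agent.Lib.Known.E8Sub.FixDim
import Cfsg.Agent.Lib.Known.E8SL2.Inv

/-!
# The group of type E8 over three elements has no subgroup PSU(4, 3)
-/

set_option autoImplicit false
set_option maxRecDepth 20000

namespace CfsgLib.Known.E8U43

open Cfsg Module
open Cfsg.Lie (chevE8)
open CfsgLib.Known.AltE6 (rep)
open CfsgLib.Known.E8Sub (fdim fdim_four fdim_eight)
open CfsgLib.Known.E8SL2 (fixd_involution)

theorem charP_three (F : Type*) [Field F] [Fintype F] (h : Fintype.card F = 9) : CharP F 3 := by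
  obtain ⟨p, hp⟩ := CharP.exists F
  obtain ⟨m, hp', hm⟩ := @FiniteField.card F _ _ p hp
  obtain rfl : p = 3 := (Nat.prime_dvd_prime_iff_eq hp' Nat.prime_three).1
    (hp'.dvd_of_dvd_pow (show p ∣ 3 ^ 2 from (h.trans (by norm_num) : Fintype.card F = 3 ^ 2) ▸ hm ▸ dvd_pow_self p m.pos.ne'))
  exact hp

theorem no_psu_43 {F : Type*} [Field F] [Fintype F] (h : Fintype.card F = 9)
    {H : Subgroup ↥(chevE8.group (ZMod 3))} (e : ↥H ≃* PSU 4 F 3) : False := by
  classical
  haveI := charP_three F h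
  haveI : Fact (Nat.Prime 3) := ⟨Nat.prime_three⟩
  obtain ⟨i, hi⟩ : IsSquare (-1 : F) := FiniteField.isSquare_neg_one_iff.2 (by rw [h]; decide)
  obtain ⟨ψ, hψ⟩ : ∃ ψ : PSU 4 F 3 →* ↥(chevE8.group (ZMod 3)), ψ = H.subtype.comp e.symm.toMonoidHom := ⟨_, rfl⟩
  have hinj : Function.Injective ψ := by
    rw [hψ]
    exact H.subtype_injective.comp e.symm.injective
  have hne : ∀ {x}, x ≠ 1 → ψ x ≠ 1 := fun hx h1 => hx (hinj (h1.trans (map_one ψ).symm))
  have hodd : Odd (Fintype.card (ZMod 3)) := by rw [ZMod.card]; decide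
  refine false_of_facts (ρ := (rep chevE8 (ZMod 3)).comp ψ) (i := i) (by rw [pow_two, ← hi])
    ⟨?_, fun x hx hx1 => ?_, fun x hx hx2 => ?_, fun x k hx hk h2 h4 => ?_⟩
  · rw [Module.finrank_fintype_fun_eq_card]
    show Fintype.card (Fin chevE8.rank ⊕ Fin chevE8.nroots) = 248
    rw [Fintype.card_sum, Fintype.card_fin, Fintype.card_fin]
    rfl
  · simp only [MonoidHom.comp_apply]
    exact fixd_involution hodd (x := ψ x) (by rw [← map_mul, ← pow_two, hx, map_one]) (hne hx1)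
  · simp only [MonoidHom.comp_apply, map_pow ψ]
    rcases fdim_four hodd (x := ψ x) (by rw [← map_pow, hx, map_one]) (by rw [← map_pow]; exact hne hx2) with
      ⟨a, b⟩ | ⟨a, b⟩
    · refine ⟨fun _ => ?_, fun h' => by omega⟩
      simpa using b
    · refine ⟨fun h' => by omega, fun _ => ?_⟩
      simpa using b
  · simp only [MonoidHom.comp_apply, map_pow ψ] at h2 h4 ⊢
    refine (fdim_eight hodd (x := ψ x) (by rw [← map_pow, hx, map_one]) h4 h2).2 (isConj_iff.2 ⟨ψ k, ?_⟩)
    rw [← map_pow, ← map_mul, ← hk, map_mul, mul_inv_cancel_right]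

end CfsgLib.Known.E8U43
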