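import Mathlib
import Cfsg.Prelude.Def_Classical

/-!
# Coded elements of the special unitary group of degree four over nine elements

The number `a + 3 b` stands for `a + b i`, where `i² = -1`; a matrix is the list of its sixteen entries by rows.
-/

set_option autoImplicit false
set_option maxRecDepth 20000

namespace CfsgLib.Known.E8U43

open Cfsg Matrix

/-- The sum of two codes. -/
def addN (a c : ℕ) : ℕ := (a % 3 + c % 3) % 3 + 3 * ((a / 3 + c / 3) % 3)

/-- The product of two codes. -/
def mulN (a c : ℕ) : ℕ :=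
  (a % 3 * (c % 3) + 2 * (a / 3 * (c / 3))) % 3 + 3 * ((a % 3 * (c / 3) + a / 3 * (c % 3)) % 3)

/-- The conjugate of a code. -/
def conjN (a : ℕ) : ℕ := a % 3 + 3 * ((3 - a / 3) % 3)

theorem addN_lt (a c : ℕ) : addN a c < 9 := by unfold addN; omega

theorem mulN_lt (a c : ℕ) : mulN a c < 9 := by unfold mulN; omega

/-- An entry of a coded matrix. -/
def ent (m : List ℕ) (r s : Fin 4) : ℕ := m.getD (4 * (r : ℕ) + (s : ℕ)) 0

/-- The list of the entries of a matrix. -/
def ofEnt (f : Fin 4 → Fin 4 → ℕ) : List ℕ :=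
  List.ofFn fun p : Fin 16 => f ⟨(p : ℕ) / 4, by omega⟩ ⟨(p : ℕ) % 4, by omega⟩

theorem ent_ofEnt (f : Fin 4 → Fin 4 → ℕ) (r s : Fin 4) : ent (ofEnt f) r s = f r s := by
  unfold ent ofEnt
  rw [List.getD_eq_getElem _ _ (by simp; omega), List.getElem_ofFn]
  congr 1 <;> exact Fin.ext (by simp only; omega)

/-- The product of coded matrices. -/
def mm (m n : List ℕ) : List ℕ :=
  ofEnt fun r s => addN (addN (mulN (ent m r 0) (ent n 0 s)) (mulN (ent m r 1) (ent n 1 s)))
    (addN (mulN (ent m r 2) (ent n 2 s)) (mulN (ent m r 3) (ent n 3 s)))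

/-- A multiple of a coded matrix. -/
def sm (c : ℕ) (m : List ℕ) : List ℕ := m.map (mulN c)

/-- The unit. -/
def oneL : List ℕ := [1, 0, 0, 0, 0, 1, 0, 0, 0, 0, 1, 0, 0, 0, 0, 1]

/-- The powers. -/
def powL (m : List ℕ) : ℕ → List ℕ
  | 0 => oneL
  | k + 1 => mm (powL m k) m

/-- The scalars of norm one. -/
def muL : List ℕ := [1, 3, 2, 6]

/-- Equality up to scalars. -/
def eqv (m n : List ℕ) : Bool := muL.any fun c => sm c m == n

/-- The determinant of a coded matrix of size three. -/
def det3 (m : List ℕ) (r s t : Fin 4) (a b c : Fin 4) : ℕ :=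
  addN (addN (mulN (ent m r a) (addN (mulN (ent m s b) (ent m t c)) (mulN 2 (mulN (ent m s c) (ent m t b)))))
    (mulN 2 (mulN (ent m r b) (addN (mulN (ent m s a) (ent m t c)) (mulN 2 (mulN (ent m s c) (ent m t a)))))))
    (mulN (ent m r c) (addN (mulN (ent m s a) (ent m t b)) (mulN 2 (mulN (ent m s b) (ent m t a)))))

/-- The determinant of a coded matrix. -/
def det4 (m : List ℕ) : ℕ :=
  addN (addN (mulN (ent m 0 0) (det3 m 1 2 3 1 2 3)) (mulN 2 (mulN (ent m 0 1) (det3 m 1 2 3 0 2 3))))
    (addN (mulN (ent m 0 2) (det3 m 1 2 3 0 1 3)) (mulN 2 (mulN (ent m 0 3) (det3 m 1 2 3 0 1 2))))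

/-- Membership in the special unitary group. -/
def okM (m : List ℕ) : Bool :=
  det4 m == 1 && (List.finRange 4).all fun a => (List.finRange 4).all fun b =>
    addN (addN (mulN (ent m 0 a) (conjN (ent m 0 b))) (mulN (ent m 1 a) (conjN (ent m 1 b))))
      (addN (mulN (ent m 2 a) (conjN (ent m 2 b))) (mulN (ent m 3 a) (conjN (ent m 3 b)))) == if a = b then 1 else 0

variable {F : Type*} [Field F]

/-- The element of a code. -/
def enc (i : F) (a : ℕ) : F := (a % 3 : ℕ) + ((a / 3 : ℕ) : F) * i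

theorem enc_zero (i : F) : enc i 0 = 0 := by simp [enc]

theorem enc_one (i : F) : enc i 1 = 1 := by simp [enc]

section

variable [CharP F 3] {i : F} (hi : i ^ 2 = -1)

omit hi in
theorem cast_mod (n : ℕ) : ((n % 3 : ℕ) : F) = (n : F) := by
  conv_rhs => rw [← Nat.mod_add_div n 3]
  rw [Nat.cast_add, Nat.cast_mul, CharP.cast_eq_zero F 3, zero_mul, add_zero]

omit hi in
theorem three_eq_zero : (3 : F) = 0 := by
  have := CharP.cast_eq_zero F 3
  simpa using this

omit hi in
theorem enc_add (i : F) (a c : ℕ) : enc i (addN a c) = enc i a + enc i c := by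
  have h1 : addN a c % 3 = (a % 3 + c % 3) % 3 := by unfold addN; omega
  have h2 : addN a c / 3 = (a / 3 + c / 3) % 3 := by unfold addN; omega
  simp only [enc, h1, h2, cast_mod, Nat.cast_add]
  ring

include hi in
theorem enc_mul (a c : ℕ) : enc i (mulN a c) = enc i a * enc i c := by
  have h1 : mulN a c % 3 = (a % 3 * (c % 3) + 2 * (a / 3 * (c / 3))) % 3 := by unfold mulN; omega
  have h2 : mulN a c / 3 = (a % 3 * (c / 3) + a / 3 * (c % 3)) % 3 := by unfold mulN; omega
  simp only [enc, h1, h2, cast_mod, Nat.cast_add, Nat.cast_mul, Nat.cast_ofNat]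
  linear_combination (-((a / 3 : ℕ) : F) * ((c / 3 : ℕ) : F)) * hi + ((a / 3 : ℕ) : F) * ((c / 3 : ℕ) : F) *
    three_eq_zero (F := F)

omit hi in
theorem enc_two (i : F) : enc i 2 = -1 := by
  simp [enc]
  linear_combination three_eq_zero (F := F)

include hi in
theorem enc_conj (a : ℕ) (ha : a < 9) : enc i (conjN a) = enc i a ^ 3 := by
  haveI : Fact (Nat.Prime 3) := ⟨Nat.prime_three⟩
  have h1 : conjN a % 3 = a % 3 := by unfold conjN; omega
  have h2 : conjN a / 3 = (3 - a / 3) % 3 := by unfold conjN; omega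
  have hn : ∀ n : ℕ, ((n : F)) ^ 3 = n := fun n => by
    have := map_natCast (frobenius F 3) n
    rwa [frobenius_def] at this
  simp only [enc, h1, h2, cast_mod, add_pow_char, mul_pow, hn, Nat.cast_sub (show a / 3 ≤ 3 by omega),
    Nat.cast_ofNat]
  linear_combination (-((a / 3 : ℕ) : F) * i) * hi + i * three_eq_zero (F := F)

include hi in
theorem enc_eq_zero {a : ℕ} (ha : a < 9) (h : enc i a = 0) : a = 0 := by
  by_contra h0
  have h' : ∀ a < 9, a ≠ 0 → ∃ c < 9, mulN a c = 1 := by decide +kernel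
  obtain ⟨c, -, hc⟩ := h' a ha h0
  have := enc_mul hi a c
  rw [hc, h, zero_mul, enc_one] at this
  exact one_ne_zero this

include hi in
theorem enc_inj {a c : ℕ} (ha : a < 9) (hc : c < 9) (h : enc i a = enc i c) : a = c := by
  have hd : ∀ a < 9, ∀ c < 9, addN a (mulN 2 c) = 0 → a = c := by decide +kernel
  refine hd a ha c hc (enc_eq_zero hi (addN_lt _ _) ?_)
  rw [enc_add, enc_mul hi, enc_two, h]
  ring

/-- The matrix of a code. -/
def toM (i : F) (m : List ℕ) : Matrix (Fin 4) (Fin 4) F := Matrix.of fun r s => enc i (ent m r s)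

include hi in
theorem toM_mm (m n : List ℕ) : toM i (mm m n) = toM i m * toM i n := by
  ext r s
  rw [Matrix.mul_apply, Fin.sum_univ_four]
  simp only [toM, Matrix.of_apply, mm, ent_ofEnt, enc_add, enc_mul hi]
  ring

omit hi [CharP F 3] in
theorem toM_one (i : F) : toM i oneL = 1 := by
  ext r s
  fin_cases r <;> fin_cases s <;> simp [toM, ent, oneL, enc]

include hi in
theorem toM_sm (c : ℕ) (m : List ℕ) : toM i (sm c m) = enc i c • toM i m := by
  ext r s
  simp only [toM, Matrix.of_apply, Matrix.smul_apply, smul_eq_mul, ent, sm]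
  rw [← enc_mul hi]
  congr 1
  rw [show (0 : ℕ) = mulN c 0 from (by simp [mulN]), List.getD_map]
  simp [mulN]

include hi in
theorem okM_spec {m : List ℕ} (hm : ∀ r s, ent m r s < 9) (h : okM m = true) :
    (toM i m).det = 1 ∧ ∀ u v, hermForm 4 F 3 (toM i m *ᵥ u) (toM i m *ᵥ v) = hermForm 4 F 3 u v := by
  haveI : Fact (Nat.Prime 3) := ⟨Nat.prime_three⟩
  simp only [okM, Bool.and_eq_true, beq_iff_eq, List.all_eq_true, List.mem_finRange, true_implies] at h
  obtain ⟨hd, hu⟩ := h
  constructor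
  · have e := congrArg (enc i) hd
    simp only [det4, det3, enc_add, enc_mul hi, enc_two, enc_one] at e
    rw [Matrix.det_succ_row_zero]
    simp only [Matrix.det_fin_three, Fin.sum_univ_four, toM, Matrix.submatrix_apply, Matrix.of_apply,
      Fin.succ_zero_eq_one, Fin.succ_one_eq_two, show Fin.succ (2 : Fin 3) = (3 : Fin 4) from rfl,
      Fin.succAbove, show ((0 : Fin 3).castSucc : Fin 4) = 0 from rfl, show ((1 : Fin 3).castSucc : Fin 4) = 1 from rfl,
      show ((2 : Fin 3).castSucc : Fin 4) = 2 from rfl, Fin.val_zero, Fin.val_one, Fin.val_two,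
      show ((3 : Fin 4) : ℕ) = 3 from rfl]
    simp only [show ¬ ((0 : Fin 4) < 0) by decide, show ¬ ((1 : Fin 4) < 0) by decide,
      show ¬ ((2 : Fin 4) < 0) by decide, show (0 : Fin 4) < 1 by decide, show ¬ ((1 : Fin 4) < 1) by decide,
      show ¬ ((2 : Fin 4) < 1) by decide, show (0 : Fin 4) < 2 by decide, show (1 : Fin 4) < 2 by decide,
      show ¬ ((2 : Fin 4) < 2) by decide, show (0 : Fin 4) < 3 by decide, show (1 : Fin 4) < 3 by decide,
      show (2 : Fin 4) < 3 by decide, if_true, if_false]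
    linear_combination e
  · intro u v
    have key : ∀ a b : Fin 4, ∑ k, toM i m k a * toM i m k b ^ 3 = if a = b then 1 else 0 := fun a b => by
      have e := congrArg (enc i) (hu a b)
      rw [Fin.sum_univ_four]
      simp only [enc_add, enc_mul hi, enc_conj hi _ (hm _ _)] at e
      simp only [toM, Matrix.of_apply]
      rw [apply_ite (enc i), enc_one, enc_zero] at e
      rw [← e]
      ring
    have hexp : ∀ k, (toM i m *ᵥ u) k * (toM i m *ᵥ v) k ^ 3 =
        ∑ a, ∑ b, u a * v b ^ 3 * (toM i m k a * toM i m k b ^ 3) := fun k => by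
      simp only [Matrix.mulVec, dotProduct]
      rw [sum_pow_char 3, Finset.sum_mul_sum]
      exact Finset.sum_congr rfl fun a _ => Finset.sum_congr rfl fun b _ => by ring
    simp only [hermForm, hexp]
    rw [Finset.sum_comm]
    refine Finset.sum_congr rfl fun a _ => ?_
    rw [Finset.sum_comm]
    simp only [← Finset.mul_sum, key]
    simp

end

end CfsgLib.Known.E8U43
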