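import Cfsg.Agent.Lib.Known.E8U43.Table

/-!
# The fixed dimensions of the classes of two power order
-/

set_option autoImplicit false
set_option maxRecDepth 20000

namespace CfsgLib.Known.E8U43

open Cfsg Module
open CfsgLib.Known.E8Sub (sgnSum fdim fixAll fix_sum fix_sum_char)

/-- The facts about elements of two power order that are used. -/
structure TwoFacts {G : Type*} [Group G] {V : Type*} [AddCommGroup V] [Module (ZMod 3) V] [Fact (Nat.Prime 3)]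
    (ρ : G →* End (ZMod 3) V) : Prop where
  dim : finrank (ZMod 3) V = 248
  two : ∀ x : G, x ^ 2 = 1 → x ≠ 1 → fdim (ρ x) = 120 ∨ fdim (ρ x) = 136
  four : ∀ x : G, x ^ 4 = 1 → x ^ 2 ≠ 1 →
    (fdim (ρ (x ^ 2)) = 120 → fdim (ρ x) = 60 ∨ fdim (ρ x) = 64 ∨ fdim (ρ x) = 92) ∧
    (fdim (ρ (x ^ 2)) = 136 → fdim (ρ x) = 66 ∨ fdim (ρ x) = 70 ∨ fdim (ρ x) = 82 ∨ fdim (ρ x) = 134)
  eight : ∀ x k : G, x ^ 8 = 1 → x ^ 5 * k = k * x → fdim (ρ (x ^ 2)) = 64 → fdim (ρ (x ^ 4)) = 120 →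
    fdim (ρ x) = 32

/-- The fifth power of the representative of order eight is in its class. -/
theorem fifth_ok : ((List.range 128).any fun a =>
    eqv (powL (clsRep.getD 4 oneL) 5) (tblP.el' a) && tblP.cls.getD a 0 == 4) = true := by
  decide +kernel

theorem two_ne : (2 : ZMod 3) ≠ 0 := by decide

theorem arith_main {f1 f2 f3 f4 d0 d1 d2 d4 d5 : ℕ} (h1 : f1 = 120 ∨ f1 = 136)
    (hA : (f1 = 120 → f2 = 60 ∨ f2 = 64 ∨ f2 = 92) ∧ (f1 = 136 → f2 = 66 ∨ f2 = 70 ∨ f2 = 82 ∨ f2 = 134))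
    (hB : (f1 = 120 → f3 = 60 ∨ f3 = 64 ∨ f3 = 92) ∧ (f1 = 136 → f3 = 66 ∨ f3 = 70 ∨ f3 = 82 ∨ f3 = 134))
    (h8 : f2 = 64 → f1 = 120 → f4 = 32)
    (e0 : (248 : ℤ) + 35 * (2 * f1 - 248) + 20 * (2 * f2 - f1) + 56 * (2 * f3 - f1) + 16 * (2 * f4 - f2) = 128 * d0)
    (e1 : (248 : ℤ) + 3 * (2 * f1 - 248) - 12 * (2 * f2 - f1) - 8 * (2 * f3 - f1) + 16 * (2 * f4 - f2) = 128 * d1)
    (e2 : (248 : ℤ) + 3 * (2 * f1 - 248) + 20 * (2 * f2 - f1) - 40 * (2 * f3 - f1) + 16 * (2 * f4 - f2) = 128 * d2)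
    (e4 : (248 : ℤ) + 19 * (2 * f1 - 248) + 4 * (2 * f2 - f1) - 8 * (2 * f3 - f1) - 16 * (2 * f4 - f2) = 128 * d4)
    (e5 : (248 : ℤ) - 13 * (2 * f1 - 248) + 4 * (2 * f2 - f1) + 24 * (2 * f3 - f1) - 16 * (2 * f4 - f2) = 128 * d5) :
    f1 = 120 ∧ f2 = 64 ∧ f3 = 60 ∧ f4 = 32 := by
  obtain ⟨hA1, hA2⟩ := hA
  obtain ⟨hB1, hB2⟩ := hB
  rcases h1 with rfl | rfl
  · rcases hA1 rfl with rfl | rfl | rfl <;> rcases hB1 rfl with rfl | rfl | rfl <;> omega
  · rcases hA2 rfl with rfl | rfl | rfl | rfl <;> rcases hB2 rfl with rfl | rfl | rfl | rfl <;> omega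

variable [Fact (Nat.Prime 3)]
variable {F : Type*} [Field F] [CharP F 3] {i : F}
variable {V : Type*} [AddCommGroup V] [Module (ZMod 3) V] [FiniteDimensional (ZMod 3) V]
variable (ρ : PSU 4 F 3 →* End (ZMod 3) V)

attribute [local irreducible] powL mm

theorem fdim_one : fdim (1 : End (ZMod 3) V) = finrank (ZMod 3) V := by
  rw [fdim, show CfsgLib.Perm.AltSection.eig (1 : End (ZMod 3) V) 1 = ⊤ by
    ext; simp [CfsgLib.Perm.AltSection.mem_eig], finrank_top]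

theorem fdim_conj {G : Type*} [Group G] (σ : G →* End (ZMod 3) V) {x y k : G} (h : x * k = k * y) :
    fdim (σ x) = fdim (σ y) := by
  obtain ⟨u, hu⟩ : ∃ u : (End (ZMod 3) V)ˣ, u = Units.map σ (toUnits k) := ⟨_, rfl⟩
  have hk : (u : End (ZMod 3) V) = σ k := by rw [hu]; rfl
  obtain ⟨e, he⟩ : ∃ e : V ≃ₗ[ZMod 3] V, ∀ v, e v = σ k v :=
    ⟨LinearMap.GeneralLinearGroup.generalLinearEquiv _ _ u, fun v => by rw [← hk]; rfl⟩
  have hmap : (CfsgLib.Perm.AltSection.eig (σ y) 1).map (e : V →ₗ[ZMod 3] V) =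
      CfsgLib.Perm.AltSection.eig (σ x) 1 := by
    ext v
    simp only [Submodule.mem_map, CfsgLib.Perm.AltSection.mem_eig, one_smul, LinearEquiv.coe_coe]
    constructor
    · rintro ⟨w, hw, rfl⟩
      rw [he, ← Module.End.mul_apply, ← map_mul, h, map_mul, Module.End.mul_apply, hw]
    · intro hv
      refine ⟨e.symm v, e.injective ?_, e.apply_symm_apply v⟩
      rw [e.apply_symm_apply, he, ← Module.End.mul_apply, ← map_mul, ← h, map_mul, Module.End.mul_apply, ← he,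
        e.apply_symm_apply, hv]
  rw [fdim, fdim, ← hmap, LinearEquiv.finrank_map_eq e]

/-- The dimension at a class. -/
noncomputable def fcl (i : F) (j : ℕ) : ℕ := fdim (ρ (pj i (clsRep.getD j oneL)))

/-- The sign sum at a class. -/
noncomputable def scl (i : F) (j : ℕ) : ℤ :=
  if j = 0 then 248 else if j = 1 then 2 * (fcl ρ i 1 : ℤ) - 248 else
    if j = 4 then 2 * (fcl ρ i 4 : ℤ) - (fcl ρ i 2 : ℤ) else 2 * (fcl ρ i j : ℤ) - (fcl ρ i 1 : ℤ)

variable {ρ} (hρ : TwoFacts ρ) (hi : i ^ 2 = -1)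
include hi

theorem fdim_el {T : Tbl} (h : T.ok = true) {a : ℕ} (ha : a < T.els.length) :
    fdim (ρ (pj i (T.el' a))) = fcl ρ i (T.cls.getD a 0) := by
  obtain ⟨⟨hg, he, hw⟩, -, -, hall, -⟩ := Tbl.ok_spec h
  obtain ⟨-, -, -, hc⟩ := hall a ha
  have hel : IsSU (toM i (T.el' a)) := su_getD hi he a
  have hk := su_getD hi hw a
  have hr := su_getD hi reps_ok.2.1 (T.cls.getD a 0)
  exact fdim_conj ρ (k := pj i (T.wit.getD a oneL)) (by
    rw [← pj_mm hi hel hk, ← pj_mm hi hk hr]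
    exact pj_eqv hi (isSU_mm hi hel hk) (isSU_mm hi hk hr) hc)

omit hi in
theorem pj_ne_one {m : List ℕ} (hi : i ^ 2 = -1) (hm : IsSU (toM i m)) (h : nonCentral m = true) : pj i m ≠ 1 :=
  fun e => not_mem_center hi hm (goodM_su hi reps_ok.2.2.1) (by simpa only [nonCentral, Bool.not_eq_true'] using h)
    ((QuotientGroup.eq_one_iff _).1 e)

theorem rep_pow : pj i (clsRep.getD 0 oneL) = 1 ∧
    (pj i (clsRep.getD 1 oneL) ^ 2 = 1 ∧ pj i (clsRep.getD 1 oneL) ≠ 1) ∧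
    (∀ j, j = 2 ∨ j = 3 → pj i (clsRep.getD j oneL) ^ 4 = 1 ∧ pj i (clsRep.getD j oneL) ^ 2 ≠ 1 ∧
      fdim (ρ (pj i (clsRep.getD j oneL) ^ 2)) = fcl ρ i 1) ∧
    (pj i (clsRep.getD 4 oneL) ^ 8 = 1 ∧ pj i (clsRep.getD 4 oneL) ^ 4 ≠ 1 ∧
      fdim (ρ (pj i (clsRep.getD 4 oneL) ^ 2)) = fcl ρ i 2 ∧ fdim (ρ (pj i (clsRep.getD 4 oneL) ^ 4)) = fcl ρ i 1) := by
  obtain ⟨-, hgood, -, h0, n1, n2, n3, n4, p1, p2, p3, p4⟩ := reps_ok
  have su : ∀ j, IsSU (toM i (clsRep.getD j oneL)) := fun j => su_getD hi hgood j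
  have hpow : ∀ j k, eqv (powL (clsRep.getD j oneL) k) oneL = true → pj i (clsRep.getD j oneL) ^ k = 1 := fun j k h => by
    rw [← pj_pow hi (su j), pj_eqv hi (el_pow hi (su j) k).1 isSU_one h, pj_one]
  have hnp : ∀ j k, nonCentral (powL (clsRep.getD j oneL) k) = true →
      pj i (clsRep.getD j oneL) ^ k ≠ 1 := fun j k h => by
    rw [← pj_pow hi (su j)]
    exact pj_ne_one hi (el_pow hi (su j) k).1 h
  have hs := sq_ok
  simp only [Bool.and_eq_true, List.any_eq_true, List.mem_range, beq_iff_eq, decide_eq_true_eq] at hs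
  have hsq : ∀ k j c, (∃ a < 128, eqv (powL (clsRep.getD j oneL) k) (tblP.el' a) = true ∧ tblP.cls.getD a 0 = c) →
      fdim (ρ (pj i (clsRep.getD j oneL) ^ k)) = fcl ρ i c := fun k j c ⟨a, ha, he, hc⟩ => by
    rw [← pj_pow hi (su j), pj_eqv hi (el_pow hi (su j) k).1
      (su_getD hi (Tbl.ok_spec tblP_ok.1).1.2.1 a) he, ← hc]
    exact fdim_el hi tblP_ok.1 (tblP_ok.2.symm ▸ ha)
  refine ⟨?_, ⟨hpow 1 2 p1, ?_⟩, ?_, hpow 4 8 p4, hnp 4 4 n4, hsq 2 4 2 hs.2, hsq 4 4 1 hs.1.1.1⟩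
  · rw [pj_eqv hi (su 0) isSU_one h0, pj_one]
  · simpa only [pow_one] using hnp 1 1 n1
  · rintro j (rfl | rfl)
    · exact ⟨hpow 2 4 p2, hnp 2 2 n2, hsq 2 2 1 hs.1.1.2⟩
    · exact ⟨hpow 3 4 p3, hnp 3 2 n3, hsq 2 3 1 hs.1.2⟩

include hρ

theorem sgnSum_el {T : Tbl} (h : T.ok = true) {a : ℕ} (ha : a < T.els.length) :
    sgnSum (ρ (pj i (T.el' a))) = scl ρ i (T.cls.getD a 0) := by
  obtain ⟨⟨hg, he, hw⟩, -, -, hall, -⟩ := Tbl.ok_spec h
  obtain ⟨-, -, hc5, hc⟩ := hall a ha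
  have hel : IsSU (toM i (T.el' a)) := su_getD hi he a
  have hk := su_getD hi hw a
  have hr := su_getD hi reps_ok.2.1 (T.cls.getD a 0)
  have hconj : pj i (T.el' a) * pj i (T.wit.getD a oneL) =
      pj i (T.wit.getD a oneL) * pj i (clsRep.getD (T.cls.getD a 0) oneL) := by
    rw [← pj_mm hi hel hk, ← pj_mm hi hk hr]
    exact pj_eqv hi (isSU_mm hi hel hk) (isSU_mm hi hk hr) hc
  have h2 : fdim (ρ (pj i (T.el' a)) ^ 2) = fdim (ρ (pj i (clsRep.getD (T.cls.getD a 0) oneL) ^ 2)) := by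
    rw [← map_pow]
    exact fdim_conj ρ (k := pj i (T.wit.getD a oneL))
      (by rw [pow_two, pow_two, mul_assoc, hconj, ← mul_assoc, hconj, mul_assoc])
  rw [sgnSum, fdim_el hi h ha, h2]
  obtain ⟨q0, ⟨q1, -⟩, q23, -, -, q4, -⟩ := rep_pow (ρ := ρ) hi
  obtain ⟨c, hcdef⟩ : ∃ c, c = T.cls.getD a 0 := ⟨_, rfl⟩
  rw [← hcdef] at hc5 ⊢
  interval_cases c
  · rw [fcl, q0, one_pow, map_one, fdim_one, hρ.dim]; simp [scl]
  · rw [q1, map_one, fdim_one, hρ.dim]; simp [scl]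
  · rw [(q23 2 (Or.inl rfl)).2.2]; simp [scl]
  · rw [(q23 3 (Or.inr rfl)).2.2]; simp [scl]
  · rw [q4]; simp [scl]

/-- The signed number of elements of a class. -/
def wgt (T : Tbl) (ε : ℕ → ℕ) (j : ℕ) : ℕ × ℕ :=
  ((List.range T.els.length).countP fun a => T.cls.getD a 0 == j && ε a == 0,
    (List.range T.els.length).countP fun a => T.cls.getD a 0 == j && !(ε a == 0))

theorem sum_cls {T : Tbl} (h : T.ok = true) (ε : ℕ → ℕ) :
    ∑ a ∈ Finset.range T.els.length, (if ε a = 0 then 1 else -1) * sgnSum (ρ (pj i (T.el' a))) =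
      ∑ j ∈ Finset.range 5, (((wgt T ε j).1 : ℤ) - ((wgt T ε j).2 : ℤ)) * scl ρ i j := by
  obtain ⟨-, -, -, hall, -⟩ := Tbl.ok_spec h
  rw [← Finset.sum_fiberwise_of_maps_to (t := Finset.range 5) (g := fun a => T.cls.getD a 0)
    (fun a ha => Finset.mem_range.2 (hall a (Finset.mem_range.1 ha)).2.2.1)]
  refine Finset.sum_congr rfl fun j _ => ?_
  rw [Finset.sum_congr rfl fun a ha => show (if ε a = 0 then (1 : ℤ) else -1) * sgnSum (ρ (pj i (T.el' a))) =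
      (if ε a = 0 then (1 : ℤ) else -1) * scl ρ i j by
    rw [Finset.mem_filter, Finset.mem_range] at ha
    rw [sgnSum_el hρ hi h ha.1, ha.2], ← Finset.sum_mul]
  congr 1
  have key : ∀ n, ∑ a ∈ (Finset.range n).filter (fun a => T.cls.getD a 0 = j), (if ε a = 0 then (1 : ℤ) else -1) =
      (((List.range n).countP fun a => T.cls.getD a 0 == j && ε a == 0) : ℤ) -
      (((List.range n).countP fun a => T.cls.getD a 0 == j && !(ε a == 0)) : ℤ) := by
    intro n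
    induction n with
    | zero => simp
    | succ n ih =>
      rw [Finset.sum_filter, Finset.sum_range_succ, ← Finset.sum_filter, ih, List.range_succ, List.countP_append,
        List.countP_append]
      by_cases h1 : T.cls.getD n 0 = j <;> by_cases h2 : ε n = 0 <;> simp [h1, h2, -List.getD_eq_getElem?_getD] <;> ring
  exact key _

variable [Fintype F]

/-- The sum over a table is a multiple of its order. -/
theorem sum_tbl {T : Tbl} (h : T.ok = true) {k : ℕ} (hk : T.els.length = 2 ^ k) :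
    ∑ j ∈ Finset.range 5, (((wgt T (fun _ => 0) j).1 : ℤ) - ((wgt T (fun _ => 0) j).2 : ℤ)) * scl ρ i j =
      (T.els.length : ℤ) * (finrank (ZMod 3) ↥(fixAll (ρ.comp (T.sub i).subtype)) : ℤ) := by
  haveI : Finite (PSU 4 F 3) := inferInstance
  haveI : Fintype (T.sub i) := Fintype.ofFinite _
  have hcard : Fintype.card (T.sub i) = T.els.length := by
    rw [Fintype.card_eq_sum_ones, Tbl.sum_sub hi h fun _ => 1, Finset.sum_const, Finset.card_range, smul_eq_mul,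
      mul_one]
  have hp : IsPGroup 2 (T.sub i) := IsPGroup.of_card (n := k) (by rw [Nat.card_eq_fintype_card, hcard, hk])
  have e := fix_sum (K := ZMod 3) two_ne hp (ρ.comp (T.sub i).subtype)
  rw [hcard] at e
  rw [← sum_cls hρ hi h, ← e]
  simp only [MonoidHom.comp_apply, Subgroup.subtype_apply]
  rw [Tbl.sum_sub hi h fun x => sgnSum (ρ x)]
  exact Finset.sum_congr rfl fun a _ => by simp

theorem sum_chi {c : ℕ} (hc : c < 8) :
    ∃ d : ℕ, ∑ j ∈ Finset.range 5, (((wgt tblP (chi c) j).1 : ℤ) - ((wgt tblP (chi c) j).2 : ℤ)) * scl ρ i j =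
      128 * (d : ℤ) := by
  classical
  obtain ⟨h, hlen⟩ := tblP_ok
  have hch := List.all_eq_true.1 chars_ok c (List.mem_range.2 hc)
  simp only [List.all_eq_true, List.mem_range, Bool.and_eq_true, decide_eq_true_eq, beq_iff_eq] at hch
  haveI : Fintype (tblP.sub i) := Fintype.ofFinite _
  have hex : ∀ x : tblP.sub i, ∃ a < tblP.els.length, (x : PSU 4 F 3) = pj i (tblP.el' a) := fun x =>
    (tblP.mem_sub hi h).2 x x.2
  choose idx hidx hval using hex
  obtain ⟨⟨hg, he, hw⟩, hpos, h0, hall, -⟩ := Tbl.ok_spec h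
  have hel : ∀ a, IsSU (toM i (tblP.el' a)) := fun a => su_getD hi he a
  have hidxel : ∀ a (ha : a < tblP.els.length) (x : tblP.sub i), (x : PSU 4 F 3) = pj i (tblP.el' a) → idx x = a :=
    fun a ha x hx => tblP.inj hi h (hidx x) ha ((hval x).symm.trans hx)
  obtain ⟨u, hu⟩ : ∃ u : ℕ → ℤˣ, ∀ n, u n = if n % 2 = 0 then 1 else -1 := ⟨_, fun _ => rfl⟩
  have humul : ∀ m n, u ((m + n) % 2) = u m * u n := fun m n => by
    rw [hu, hu, hu, Nat.mod_mod]
    rcases Nat.mod_two_eq_zero_or_one m with em | em <;> rcases Nat.mod_two_eq_zero_or_one n with en | en <;>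
      simp [em, en, Nat.add_mod]
  have hch0 : chi c 0 = 0 := (by decide +kernel : ∀ c < 8, chi c 0 = 0) c hc
  have hg3 : tblP.gens.length = 3 := by decide +kernel
  have hstep : ∀ a < tblP.els.length, ∀ j < tblP.gens.length,
      pj i (tblP.el' a) * pj i (tblP.gens.getD j oneL) = pj i (tblP.el' (tblP.nx a j)) := fun a ha j hj => by
    rw [← pj_mm hi (hel a) (su_getD hi hg j)]
    exact pj_eqv hi (isSU_mm hi (hel a) (su_getD hi hg j)) (hel _) ((hall a ha).1 j hj).2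
  have hmul : ∀ b, b < tblP.els.length → ∀ x y : tblP.sub i, (y : PSU 4 F 3) = pj i (tblP.el' b) →
      u (chi c (idx (x * y))) = u (chi c (idx x)) * u (chi c b) := by
    intro b
    induction b using Nat.strong_induction_on with
    | _ b ih =>
      intro hb x y hy
      rcases Nat.eq_zero_or_pos b with rfl | hp
      · have e1 : y = 1 := Subtype.ext (by
          rw [hy, pj_eqv hi (hel 0) isSU_one h0, pj_one]; rfl)
        rw [e1, mul_one, hch0, hu 0]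
        simp
      · obtain ⟨r1, r2, r3⟩ := (hall b hb).2.1 hp.ne'
        obtain ⟨pa, hpa⟩ : ∃ pa, pa = (tblP.par.getD b (0, 0)).1 := ⟨_, rfl⟩
        obtain ⟨pg, hpg⟩ : ∃ pg, pg = (tblP.par.getD b (0, 0)).2 := ⟨_, rfl⟩
        rw [← hpa] at r1 r3
        rw [← hpg] at r2 r3
        obtain ⟨y', hy'⟩ : ∃ y' : tblP.sub i, (y' : PSU 4 F 3) = pj i (tblP.el' pa) :=
          ⟨⟨_, (tblP.mem_sub hi h).1 pa (r1.trans hb)⟩, rfl⟩
        have hxy' : idx (x * y) = tblP.nx (idx (x * y')) pg := by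
          refine hidxel _ ((hall _ (hidx _)).1 pg r2).1 _ ?_
          rw [← hstep _ (hidx _) pg r2, ← hval, Subgroup.coe_mul, Subgroup.coe_mul, hy, hy', mul_assoc,
            hstep _ (r1.trans hb) pg r2, r3]
        have e1 := (hch _ (hlen ▸ hidx (x * y'))).2 pg (hg3 ▸ r2)
        have e2 := (hch pa (hlen ▸ r1.trans hb)).2 pg (hg3 ▸ r2)
        rw [r3] at e2
        rw [hxy', e1, e2, humul, humul, ih pa r1 (r1.trans hb) x y' hy', mul_assoc]
  obtain ⟨ε, hε⟩ : ∃ ε : tblP.sub i →* ℤˣ, ∀ x, ε x = u (chi c (idx x)) :=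
    ⟨{ toFun := fun x => u (chi c (idx x))
       map_one' := by
        rw [hidxel 0 hpos 1 (by rw [pj_eqv hi (hel 0) isSU_one h0, pj_one]; rfl), hch0, hu]; simp
       map_mul' := fun x y => hmul (idx y) (hidx y) x y (hval y) }, fun _ => rfl⟩
  have hcard : Fintype.card (tblP.sub i) = 128 := by
    rw [Fintype.card_eq_sum_ones, Tbl.sum_sub hi h fun _ => 1, Finset.sum_const, Finset.card_range, hlen, smul_eq_mul,
      mul_one]
  have hp : IsPGroup 2 (tblP.sub i) := IsPGroup.of_card (n := 7) (by rw [Nat.card_eq_fintype_card, hcard]; rfl)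
  obtain ⟨d, -, e⟩ := fix_sum_char (K := ZMod 3) two_ne hp (ρ.comp (tblP.sub i).subtype) ε
  rw [hcard] at e
  refine ⟨d, ?_⟩
  rw [← sum_cls hρ hi h, ← show ((128 : ℕ) : ℤ) = 128 from rfl, ← e]
  rw [show (∑ x : tblP.sub i, ((ε x : ℤˣ) : ℤ) * sgnSum ((ρ.comp (tblP.sub i).subtype) x)) =
      ∑ x : tblP.sub i, (fun z : PSU 4 F 3 => if hz : z ∈ tblP.sub i then
        ((ε ⟨z, hz⟩ : ℤˣ) : ℤ) * sgnSum (ρ z) else 0) (x : PSU 4 F 3) from
    Finset.sum_congr rfl fun x _ => by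
      simp only [dif_pos x.2, Subtype.coe_eta, MonoidHom.comp_apply, Subgroup.subtype_apply]]
  rw [Tbl.sum_sub hi h (fun z : PSU 4 F 3 => if hz : z ∈ tblP.sub i then
        ((ε ⟨z, hz⟩ : ℤˣ) : ℤ) * sgnSum (ρ z) else 0)]
  refine Finset.sum_congr rfl fun a ha => ?_
  rw [Finset.mem_range] at ha
  rw [dif_pos ((tblP.mem_sub hi h).1 a ha), hε, hidxel a ha _ rfl, hu]
  have hlt := (hch a (hlen ▸ ha)).1
  interval_cases chi c a <;> simp

/-- The sums of signs of the classes of two power order. -/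
theorem scl_eq : fcl ρ i 1 = 120 ∧ fcl ρ i 2 = 64 ∧ fcl ρ i 3 = 60 ∧ fcl ρ i 4 = 32 := by
  obtain ⟨-, q1, q23, q4⟩ := rep_pow (ρ := ρ) hi
  obtain ⟨a1, a2, a3⟩ := q23 2 (Or.inl rfl)
  obtain ⟨b1, b2, b3⟩ := q23 3 (Or.inr rfl)
  have hT : fdim (ρ (pj i (clsRep.getD 1 oneL))) = 120 ∨ fdim (ρ (pj i (clsRep.getD 1 oneL))) = 136 :=
    hρ.two _ q1.1 q1.2
  have hA := hρ.four _ a1 a2
  have hB := hρ.four _ b1 b2
  rw [a3] at hA
  rw [b3] at hB
  have hk8 : ∃ k, pj i (clsRep.getD 4 oneL) ^ 5 * k = k * pj i (clsRep.getD 4 oneL) := by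
    have h' := fifth_ok
    simp only [List.any_eq_true, List.mem_range, Bool.and_eq_true, beq_iff_eq] at h'
    obtain ⟨a, ha, hea, hca⟩ := h'
    obtain ⟨⟨-, he, hw⟩, -, -, hall, -⟩ := Tbl.ok_spec tblP_ok.1
    obtain ⟨-, -, -, hwit⟩ := hall a (tblP_ok.2.symm ▸ ha)
    rw [hca] at hwit
    have hel : IsSU (toM i (tblP.el' a)) := su_getD hi he a
    have hk := su_getD hi hw a
    have hr := su_getD hi reps_ok.2.1 4
    refine ⟨pj i (tblP.wit.getD a oneL), ?_⟩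
    rw [← pj_pow hi hr, pj_eqv hi (el_pow hi hr 5).1 hel hea, ← pj_mm hi hel hk, ← pj_mm hi hk hr]
    exact pj_eqv hi (isSU_mm hi hel hk) (isSU_mm hi hk hr) hwit
  obtain ⟨k8, hk8⟩ := hk8
  have h8 := hρ.eight _ k8 q4.1 hk8
  rw [q4.2.2.1, q4.2.2.2] at h8
  have hw : ∀ c < 8, (List.range 5).map (fun j => wgt tblP (chi c) j) = ([
      [(1, 0), (35, 0), (20, 0), (56, 0), (16, 0)], [(1, 0), (19, 16), (4, 16), (24, 32), (16, 0)],
      [(1, 0), (19, 16), (20, 0), (8, 48), (16, 0)], [(1, 0), (19, 16), (4, 16), (24, 32), (16, 0)],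
      [(1, 0), (27, 8), (12, 8), (24, 32), (0, 16)], [(1, 0), (11, 24), (12, 8), (40, 16), (0, 16)],
      [(1, 0), (27, 8), (12, 8), (24, 32), (0, 16)], [(1, 0), (27, 8), (12, 8), (24, 32), (0, 16)]] :
        List (List (ℕ × ℕ))).getD c [] := by decide +kernel
  have hS : ∀ c < 8, ∀ j < 5, wgt tblP (chi c) j = (((List.range 5).map fun j => wgt tblP (chi c) j)).getD j (0, 0) := by
    intro c _ j hj
    rw [List.getD_eq_getElem _ _ (by simpa using hj), List.getElem_map, List.getElem_range]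
  have hE : ∀ c < 8, ∀ w : List (ℕ × ℕ), (List.range 5).map (fun j => wgt tblP (chi c) j) = w → ∃ d : ℕ,
      ∑ j ∈ Finset.range 5, (((w.getD j (0, 0)).1 : ℤ) - ((w.getD j (0, 0)).2 : ℤ)) * scl ρ i j = 128 * (d : ℤ) := by
    intro c hc w e
    obtain ⟨d, hd⟩ := sum_chi hρ hi hc
    refine ⟨d, hd ▸ Finset.sum_congr rfl fun j hj => ?_⟩
    rw [hS c hc j (Finset.mem_range.1 hj), e]
  obtain ⟨d0, e0⟩ := hE 0 (by norm_num) _ (hw 0 (by norm_num))
  obtain ⟨d1, e1⟩ := hE 1 (by norm_num) _ (hw 1 (by norm_num))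
  obtain ⟨d2, e2⟩ := hE 2 (by norm_num) _ (hw 2 (by norm_num))
  obtain ⟨d4, e4⟩ := hE 4 (by norm_num) _ (hw 4 (by norm_num))
  obtain ⟨d5, e5⟩ := hE 5 (by norm_num) _ (hw 5 (by norm_num))
  simp only [Finset.sum_range_succ, Finset.sum_range_zero, scl, List.getD_cons_zero, List.getD_cons_succ] at e0 e1 e2 e4 e5
  norm_num at e0 e1 e2 e4 e5
  refine arith_main (d0 := d0) (d1 := d1) (d2 := d2) (d4 := d4) (d5 := d5) hT hA hB h8 ?_ ?_ ?_ ?_ ?_
  · linear_combination e0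
  · linear_combination e1
  · linear_combination e2
  · linear_combination e4
  · linear_combination e5

end CfsgLib.Known.E8U43
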