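import Cfsg.Agent.Lib.Known.E8U43.Elem
import Cfsg.Agent.Lib.Known.E8U43.Checks
import Cfsg.Agent.Lib.Known.E8Sub.FixSum

/-!
# Subgroups given by tables
-/

set_option autoImplicit false
set_option maxRecDepth 20000

namespace CfsgLib.Known.E8U43

open Cfsg Module
open CfsgLib.Known.E8Sub (sgnSum fdim fixAll fix_sum fix_sum_char)

variable {F : Type*} [Field F] [CharP F 3] {i : F}

/-- The element of the projective group of a code. -/
noncomputable def pj (i : F) (m : List ℕ) : PSU 4 F 3 := QuotientGroup.mk' _ (el i m)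

theorem goodM_small {m : List ℕ} (h : goodM m = true) (r s : Fin 4) : ent m r s < 9 := by
  simp only [goodM, Bool.and_eq_true, List.all_eq_true, decide_eq_true_eq] at h
  unfold ent
  rcases Nat.lt_or_ge (4 * (r : ℕ) + (s : ℕ)) m.length with hl | hl
  · rw [List.getD_eq_getElem _ _ hl]; exact h.1 _ (List.getElem_mem hl)
  · rw [List.getD_eq_default _ _ hl]; norm_num

theorem pj_one : pj i oneL = 1 := by rw [pj, el_one, map_one]

theorem mm_ext {a b c d : List ℕ} (h : ∀ r s, ent (mm a b) r s = ent (mm c d) r s) : mm a b = mm c d := by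
  unfold mm at h ⊢
  simp only [ent_ofEnt] at h
  exact congrArg ofEnt (funext fun r => funext fun s => h r s)

variable (hi : i ^ 2 = -1)
include hi

theorem goodM_su {m : List ℕ} (h : goodM m = true) : IsSU (toM i m) := by
  have h' := h
  rw [goodM, Bool.and_eq_true] at h'
  exact okM_spec hi (goodM_small h) h'.2

theorem pj_mm {m n : List ℕ} (hm : IsSU (toM i m)) (hn : IsSU (toM i n)) : pj i (mm m n) = pj i m * pj i n := by
  rw [pj, pj, pj, el_mm hi hm hn, map_mul]

theorem pj_pow {m : List ℕ} (hm : IsSU (toM i m)) (k : ℕ) : pj i (powL m k) = pj i m ^ k := by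
  rw [pj, pj, (el_pow hi hm k).2, map_pow]

theorem pj_eqv {m n : List ℕ} (hm : IsSU (toM i m)) (hn : IsSU (toM i n)) (h : eqv m n = true) :
    pj i m = pj i n := by
  obtain ⟨z, hz, e⟩ := eqv_spec hi hm hn h
  rw [pj, pj, e, map_mul, show QuotientGroup.mk' _ z = (1 : PSU 4 F 3) from (QuotientGroup.eq_one_iff z).2 hz,
    one_mul]

omit hi in
theorem good_oneL : IsSU (toM i oneL) := isSU_one

theorem su_getD {L : List (List ℕ)} (hL : L.all goodM = true) (a : ℕ) : IsSU (toM i (L.getD a oneL)) := by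
  rcases Nat.lt_or_ge a L.length with hl | hl
  · rw [List.getD_eq_getElem _ _ hl]
    exact goodM_su hi (List.all_eq_true.1 hL _ (List.getElem_mem hl))
  · rw [List.getD_eq_default _ _ hl]; exact isSU_one

omit hi in
/-- The checks of a table, spelt out. -/
theorem Tbl.ok_spec {T : Tbl} (h : T.ok = true) :
    (T.gens.all goodM = true ∧ T.els.all goodM = true ∧ T.wit.all goodM = true) ∧ 0 < T.els.length ∧
    eqv (T.el' 0) oneL = true ∧
    (∀ a < T.els.length, (∀ j < T.gens.length, T.nx a j < T.els.length ∧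
        eqv (mm (T.el' a) (T.gens.getD j oneL)) (T.el' (T.nx a j)) = true) ∧
      (a ≠ 0 → (T.par.getD a (0, 0)).1 < a ∧ (T.par.getD a (0, 0)).2 < T.gens.length ∧
        T.nx (T.par.getD a (0, 0)).1 (T.par.getD a (0, 0)).2 = a) ∧
      T.cls.getD a 0 < 5 ∧
      eqv (mm (T.el' a) (T.wit.getD a oneL)) (mm (T.wit.getD a oneL) (clsRep.getD (T.cls.getD a 0) oneL)) = true) ∧
    ((T.els.map fingerprint).Nodup ∧ normGens.all goodM = true ∧
      ∀ m ∈ T.els, goodM (adjL m) = true ∧ mm m (adjL m) = oneL) := by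
  simp only [Tbl.ok, Bool.and_eq_true, List.all_eq_true, List.mem_range, decide_eq_true_eq, beq_iff_eq,
    Bool.or_eq_true, Bool.not_eq_true'] at h
  obtain ⟨⟨⟨⟨⟨⟨⟨⟨⟨⟨h1, h2⟩, h3⟩, -⟩, -⟩, h6⟩, h7⟩, h8⟩, h9⟩, h10⟩, h11⟩ := h
  refine ⟨⟨List.all_eq_true.2 h1, List.all_eq_true.2 h2, List.all_eq_true.2 h3⟩, h6, h7, fun a ha => ?_, h9, List.all_eq_true.2 h10, h11⟩
  obtain ⟨⟨⟨q1, q2⟩, q3⟩, q4⟩ := h8 a ha
  exact ⟨q1, fun h0 => by
    obtain ⟨⟨r1, r2⟩, r3⟩ := q2.resolve_left h0
    exact ⟨r1, r2, r3⟩, q3, q4⟩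

/-- The subgroup of a table. -/
noncomputable def Tbl.sub (T : Tbl) (i : F) : Subgroup (PSU 4 F 3) :=
  Subgroup.closure {x | ∃ j < T.gens.length, x = pj i (T.gens.getD j oneL)}

variable [Fintype F]

theorem Tbl.mem_sub {T : Tbl} (h : T.ok = true) :
    (∀ a < T.els.length, pj i (T.el' a) ∈ T.sub i) ∧
      ∀ x ∈ T.sub i, ∃ a < T.els.length, x = pj i (T.el' a) := by
  obtain ⟨⟨hg, he, hw⟩, hpos, h0, hall, -⟩ := Tbl.ok_spec h
  have hel : ∀ a, IsSU (toM i (T.el' a)) := fun a => su_getD hi he a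
  have hnx : ∀ a < T.els.length, ∀ j < T.gens.length,
      pj i (T.el' a) * pj i (T.gens.getD j oneL) = pj i (T.el' (T.nx a j)) := fun a ha j hj => by
    rw [← pj_mm hi (hel a) (su_getD hi hg j)]
    exact pj_eqv hi (isSU_mm hi (hel a) (su_getD hi hg j)) (hel _) ((hall a ha).1 j hj).2
  have hone : pj i (T.el' 0) = 1 := by
    rw [pj_eqv hi (hel 0) isSU_one h0, pj_one]
  constructor
  · intro a
    induction a using Nat.strong_induction_on with
    | _ a ih =>
      intro ha
      rcases Nat.eq_zero_or_pos a with rfl | hp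
      · rw [hone]; exact one_mem _
      · obtain ⟨r1, r2, r3⟩ := (hall a ha).2.1 hp.ne'
        rw [← r3, ← hnx _ (r1.trans ha) _ r2]
        exact mul_mem (ih _ r1 (r1.trans ha)) (Subgroup.subset_closure ⟨_, r2, rfl⟩)
  · intro x hx
    rw [Tbl.sub, ← Subgroup.mem_toSubmonoid, Subgroup.closure_toSubmonoid_of_finite] at hx
    induction hx using Submonoid.closure_induction_right with
    | one => exact ⟨0, hpos, hone.symm⟩
    | mul_right y _ z hz ih =>
      obtain ⟨a, ha, rfl⟩ := ih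
      obtain ⟨j, hj, rfl⟩ := hz
      exact ⟨T.nx a j, ((hall a ha).1 j hj).1, hnx a ha j hj⟩

theorem Tbl.inj {T : Tbl} (h : T.ok = true) {a c : ℕ} (ha : a < T.els.length) (hc : c < T.els.length)
    (e : pj i (T.el' a) = pj i (T.el' c)) : a = c := by
  obtain ⟨⟨hg, he, hw⟩, -, -, -, hnd, hn, hadj⟩ := Tbl.ok_spec h
  have hel : ∀ a, IsSU (toM i (T.el' a)) := fun a => su_getD hi he a
  have hmem : ∀ b < T.els.length, T.el' b ∈ T.els := fun b hb => by
    rw [Tbl.el', List.getD_eq_getElem _ _ hb]; exact List.getElem_mem hb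
  obtain ⟨z, hz, ez⟩ : ∃ z ∈ Subgroup.center (SU 4 F 3), el i (T.el' a) = el i (T.el' c) * z := by
    refine ⟨(el i (T.el' c))⁻¹ * el i (T.el' a), ?_, by rw [mul_inv_cancel_left]⟩
    exact QuotientGroup.eq.1 e.symm
  have hinv : ∀ b < T.els.length, el i (adjL (T.el' b)) = (el i (T.el' b))⁻¹ := fun b hb => by
    obtain ⟨h1, h2⟩ := hadj _ (hmem b hb)
    refine eq_inv_of_mul_eq_one_right ?_
    rw [← el_mm hi (hel b) (goodM_su hi h1), h2, el_one]
  have hfp : fingerprint (T.el' a) = fingerprint (T.el' c) := by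
    refine List.map_congr_left fun n hnm => ?_
    have hN := goodM_su hi (List.all_eq_true.1 hn n hnm)
    have hA := goodM_su hi (hadj _ (hmem a ha)).1
    have hC := goodM_su hi (hadj _ (hmem c hc)).1
    have e1 : el i (mm (mm (T.el' a) n) (adjL (T.el' a))) = el i (mm (mm (T.el' c) n) (adjL (T.el' c))) := by
      rw [el_mm hi (isSU_mm hi (hel a) hN) hA, el_mm hi (isSU_mm hi (hel c) hN) hC,
        el_mm hi (hel a) hN,
        el_mm hi (hel c) hN, hinv a ha, hinv c hc, ez, _root_.mul_inv_rev]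
      have hz' := Subgroup.mem_center_iff.1 hz (el i n)
      calc el i (T.el' c) * z * el i n * (z⁻¹ * (el i (T.el' c))⁻¹)
          = el i (T.el' c) * (z * el i n * z⁻¹) * (el i (T.el' c))⁻¹ := by group
        _ = _ := by rw [← hz', mul_inv_cancel_right]
    have e2 := congrArg (fun x : SU 4 F 3 => x.1.1) e1
    simp only [el_val (isSU_mm hi (isSU_mm hi (hel a) hN) hA),
      el_val (isSU_mm hi (isSU_mm hi (hel c) hN) hC)] at e2
    have hlt : ∀ x y r s, ent (mm x y) r s < 9 := fun x y r s => by rw [mm, ent_ofEnt]; exact addN_lt _ _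
    have e3 := toM_inj hi (hlt _ _) (hlt _ _) e2
    exact mm_ext e3
  have h1 : (T.els.map fingerprint)[a]'(by simpa using ha) = (T.els.map fingerprint)[c]'(by simpa using hc) := by
    simp only [List.getElem_map]
    simpa [Tbl.el', ha, hc] using hfp
  exact (hnd.getElem_inj_iff).1 h1

/-- A sum over the subgroup of a table. -/
theorem Tbl.sum_sub {T : Tbl} (h : T.ok = true) [Fintype (T.sub i)] {A : Type*} [AddCommMonoid A]
    (φ : PSU 4 F 3 → A) :
    ∑ x : T.sub i, φ x = ∑ a ∈ Finset.range T.els.length, φ (pj i (T.el' a)) := by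
  refine (Finset.sum_bij (fun a ha => (⟨pj i (T.el' a), (T.mem_sub hi h).1 a (Finset.mem_range.1 ha)⟩ : T.sub i))
    (fun _ _ => Finset.mem_univ _) (fun a ha c hc e => T.inj hi h (Finset.mem_range.1 ha) (Finset.mem_range.1 hc)
      (congrArg Subtype.val e)) (fun x _ => ?_) (fun _ _ => rfl)).symm
  obtain ⟨a, ha, e⟩ := (T.mem_sub hi h).2 x x.2
  exact ⟨a, Finset.mem_range.2 ha, Subtype.ext e.symm⟩

end CfsgLib.Known.E8U43
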